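/-
Opposite unitriangular subgroups of PSL(2,q): a proper subgroup containing one of them meets the
other trivially.
-/
import Cfsg.Agent.Lib.Classical.SL
import Mathlib.GroupTheory.Sylow
import Mathlib.FieldTheory.Finite.Basic

set_option autoImplicit false

namespace Cfsg.Agent.PushUp

open Matrix
open scoped MatrixGroups

section SL2

variable {F : Type*} [Field F]

/-- upper unitriangular element -/
def up (b : F) : Matrix.SpecialLinearGroup (Fin 2) F := ⟨!![1, b; 0, 1], by simp [det_fin_two_of]⟩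

/-- lower unitriangular element -/
def low (b : F) : Matrix.SpecialLinearGroup (Fin 2) F := ⟨!![1, 0; b, 1], by simp [det_fin_two_of]⟩

/-- Weyl element -/
def weyl : Matrix.SpecialLinearGroup (Fin 2) F := ⟨!![0, -1; 1, 0], by simp [det_fin_two_of]⟩

theorem coe_up (b : F) : (up b : Matrix (Fin 2) (Fin 2) F) = !![1, b; 0, 1] := rfl
theorem coe_low (b : F) : (low b : Matrix (Fin 2) (Fin 2) F) = !![1, 0; b, 1] := rfl
theorem coe_weyl : ((weyl : Matrix.SpecialLinearGroup (Fin 2) F) : Matrix (Fin 2) (Fin 2) F) =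
    !![0, -1; 1, 0] := rfl

theorem up_mul (a b : F) : up a * up b = up (a + b) := by
  apply Subtype.ext
  rw [Matrix.SpecialLinearGroup.coe_mul, coe_up, coe_up, coe_up]
  ext i j
  fin_cases i <;> fin_cases j <;> simp [Matrix.mul_apply, Fin.sum_univ_two, add_comm]

theorem up_zero : up (0 : F) = 1 := by
  apply Subtype.ext
  rw [coe_up, Matrix.SpecialLinearGroup.coe_one]
  ext i j
  fin_cases i <;> fin_cases j <;> simp

theorem weyl_up (b : F) : weyl * up b * weyl⁻¹ = low (-b) := by
  rw [mul_inv_eq_iff_eq_mul]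
  apply Subtype.ext
  rw [Matrix.SpecialLinearGroup.coe_mul, Matrix.SpecialLinearGroup.coe_mul, coe_up, coe_low, coe_weyl]
  ext i j
  fin_cases i <;> fin_cases j <;> simp [Matrix.mul_apply, Fin.sum_univ_two]

theorem low_up_low {b : F} (hb : b ≠ 0) (y : F) :
    (low (-b⁻¹) * up b * low (-b⁻¹)) * low y =
      up (-(b * b * y)) * (low (-b⁻¹) * up b * low (-b⁻¹)) := by
  apply Subtype.ext
  simp only [Matrix.SpecialLinearGroup.coe_mul, coe_up, coe_low]
  ext i j
  fin_cases i <;> fin_cases j <;> simp [Matrix.mul_apply, Fin.sum_univ_two] <;> field_simp <;> (first | ring1 | simp)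

theorem up_central {b : F} (h : up b ∈ Subgroup.center (Matrix.SpecialLinearGroup (Fin 2) F)) :
    b = 0 := by
  have h' := Subgroup.mem_center_iff.1 h (low 1)
  have h1 : ((low 1 * up b : Matrix.SpecialLinearGroup (Fin 2) F) : Matrix (Fin 2) (Fin 2) F) 0 0 =
      ((up b * low 1 : Matrix.SpecialLinearGroup (Fin 2) F) : Matrix (Fin 2) (Fin 2) F) 0 0 := by
    rw [h']
  rw [Matrix.SpecialLinearGroup.coe_mul, Matrix.SpecialLinearGroup.coe_mul, coe_up, coe_low] at h1
  simpa [Matrix.mul_apply, Fin.sum_univ_two] using h1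

theorem eq_top_of_mem {H : Subgroup (Matrix.SpecialLinearGroup (Fin 2) F)} (hl : ∀ y, low y ∈ H)
    {b : F} (hb : b ≠ 0) (hu : up b ∈ H) : H = ⊤ := by
  set w := low (-b⁻¹) * up b * low (-b⁻¹) with hw
  have hwm : w ∈ H := H.mul_mem (H.mul_mem (hl _) hu) (hl _)
  have hall : ∀ c, up c ∈ H := by
    intro c
    have h1 := low_up_low hb (-(c / (b * b)))
    rw [← hw] at h1
    have e : -(b * b * -(c / (b * b))) = c := by field_simp
    rw [e] at h1
    have h2 : up c * w ∈ H := h1 ▸ H.mul_mem hwm (hl _)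
    simpa using H.mul_mem h2 (H.inv_mem hwm)
  rw [eq_top_iff, ← ClassicalSL.closure_elemTransvections, Subgroup.closure_le]
  rintro g ⟨i, j, hij, c, rfl⟩
  fin_cases i <;> fin_cases j
  · exact absurd rfl hij
  · rw [SetLike.mem_coe]
    convert hall c using 2
    apply Subtype.ext
    rw [coe_up, Matrix.SpecialLinearGroup.transvection_coe]
    ext a d
    fin_cases a <;> fin_cases d <;> simp [Matrix.single]
  · rw [SetLike.mem_coe]
    convert hl c using 2
    apply Subtype.ext
    rw [coe_low, Matrix.SpecialLinearGroup.transvection_coe]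
    ext a d
    fin_cases a <;> fin_cases d <;> simp [Matrix.single]
  · exact absurd rfl hij

end SL2

section PSL2

variable (F : Type*) [Field F]

/-- the projection -/
noncomputable def proj :
    Matrix.SpecialLinearGroup (Fin 2) F →* Matrix.ProjectiveSpecialLinearGroup (Fin 2) F :=
  QuotientGroup.mk' _

theorem proj_surjective : Function.Surjective (proj F) := QuotientGroup.mk'_surjective _

/-- image of the upper unitriangular group -/
noncomputable def Ubar : Subgroup (Matrix.ProjectiveSpecialLinearGroup (Fin 2) F) where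
  carrier := Set.range fun b : F => proj F (up b)
  one_mem' := ⟨0, by simp only [up_zero, map_one]⟩
  mul_mem' := by
    rintro _ _ ⟨a, rfl⟩ ⟨b, rfl⟩
    exact ⟨a + b, by simp only [← up_mul, map_mul]⟩
  inv_mem' := by
    rintro _ ⟨a, rfl⟩
    exact ⟨-a, eq_inv_of_mul_eq_one_left (by rw [← map_mul, up_mul, neg_add_cancel, up_zero, map_one])⟩

theorem proj_up_inj : Function.Injective fun b : F => proj F (up b) := by
  intro a b h
  have h1 : proj F (up a * up (-b)) = 1 := by
    rw [map_mul, show proj F (up a) = proj F (up b) from h, ← map_mul, up_mul, add_neg_cancel,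
      up_zero, map_one]
  rw [up_mul] at h1
  have := up_central ((QuotientGroup.eq_one_iff _).1 h1)
  linear_combination this

/-- A proper subgroup containing the conjugate of `Ubar` by the Weyl element meets `Ubar` trivially. -/
theorem inf_eq_one {H : Subgroup (Matrix.ProjectiveSpecialLinearGroup (Fin 2) F)} (hH : H ≠ ⊤)
    (hL : (Ubar F).map (MulAut.conj (proj F weyl)).toMonoidHom ≤ H)
    {x : Matrix.ProjectiveSpecialLinearGroup (Fin 2) F} (hx : x ∈ Ubar F) (hxH : x ∈ H) : x = 1 := by
  obtain ⟨b, rfl⟩ := hx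
  by_contra hne
  have hb : b ≠ 0 := fun h0 => hne (by show proj F (up b) = 1; rw [h0, up_zero, map_one])
  apply hH
  have htop : H.comap (proj F) = ⊤ := by
    refine eq_top_of_mem (fun y => ?_) hb hxH
    apply hL
    refine ⟨proj F (up (-y)), ⟨-y, rfl⟩, ?_⟩
    show proj F weyl * proj F (up (-y)) * (proj F weyl)⁻¹ = proj F (low y)
    rw [← map_inv, ← map_mul, ← map_mul, weyl_up, neg_neg]
  rw [← Subgroup.map_comap_eq_self_of_surjective (proj_surjective F) H, htop,
    Subgroup.map_top_of_surjective _ (proj_surjective F)]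

theorem weyl_conj_ne {b : F} (hb : b ≠ 0) :
    proj F (up b) ∉ (Ubar F).map (MulAut.conj (proj F weyl)).toMonoidHom := by
  rintro ⟨_, ⟨a, rfl⟩, h⟩
  change proj F weyl * proj F (up a) * (proj F weyl)⁻¹ = proj F (up b) at h
  rw [← map_inv, ← map_mul, ← map_mul, weyl_up] at h
  have h1 : proj F (low (-a) * up (-b)) = 1 := by
    rw [map_mul, h, ← map_mul, up_mul, add_neg_cancel, up_zero, map_one]
  have h2 := Subgroup.mem_center_iff.1 ((QuotientGroup.eq_one_iff _).1 h1) (up 1)
  have h3 : ((up 1 * (low (-a) * up (-b)) : Matrix.SpecialLinearGroup (Fin 2) F) :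
      Matrix (Fin 2) (Fin 2) F) 0 0 =
      (((low (-a) * up (-b)) * up 1 : Matrix.SpecialLinearGroup (Fin 2) F) :
      Matrix (Fin 2) (Fin 2) F) 0 0 := by rw [h2]
  simp only [Matrix.SpecialLinearGroup.coe_mul, coe_up, coe_low] at h3
  simp [Matrix.mul_apply, Fin.sum_univ_two] at h3
  subst h3
  have h4 : proj F (up b) = proj F (up 0) := by
    rw [up_zero, map_one, ← h]
    simp [show low (0 : F) = 1 by
      apply Subtype.ext
      rw [coe_low, Matrix.SpecialLinearGroup.coe_one]
      ext i j
      fin_cases i <;> fin_cases j <;> simp]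
  exact hb (proj_up_inj F h4)

variable [Fintype F]

theorem card_Ubar : Nat.card ↥(Ubar F) = Fintype.card F := by
  have h := Nat.card_range_of_injective (proj_up_inj F)
  rw [Nat.card_eq_fintype_card (α := F)] at h
  exact h

theorem index_Ubar_not_dvd {p n : ℕ} [hp : Fact p.Prime] (hq : Fintype.card F = p ^ n) :
    ¬ p ∣ (Ubar F).index := by
  have hn : n ≠ 0 := fun h => by
    have := Fintype.one_lt_card (α := F)
    rw [hq, h] at this
    simp at this
  have hF : Nat.card F = p ^ n := by rw [Nat.card_eq_fintype_card, hq]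
  have h := ClassicalSL.card_psl_mul (ι := Fin 2) (F := F)
  rw [ClassicalSL.card_gl_fin hF, ← Subgroup.card_mul_index (Ubar F), card_Ubar, hq, hF,
    Fin.prod_univ_two] at h
  simp only [Fin.val_zero, Fin.val_one, pow_zero, pow_one, Fintype.card_fin] at h
  set q := p ^ n with hqdef
  intro hdvd
  have hq2 : 2 ≤ q := by
    calc 2 ≤ p := hp.out.two_le
      _ ≤ q := Nat.le_self_pow hn p
  obtain ⟨r, hr⟩ : ∃ r, q = r + 1 := ⟨q - 1, by omega⟩
  have hsub : q ^ 2 - q = q * r := by
    rw [hr]; apply Nat.sub_eq_of_eq_add; ring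
  have hsub1 : q - 1 = r := by omega
  have hsub2 : q ^ 2 - 1 = r * (r + 2) := by
    rw [hr]; apply Nat.sub_eq_of_eq_add; ring
  rw [hsub, hsub1, hsub2] at h
  have hr0 : 0 < r := by omega
  have h5 : (Ubar F).index * Nat.gcd 2 r = r * (r + 2) := by
    have hpos : 0 < q * r := Nat.mul_pos (by omega) hr0
    apply Nat.eq_of_mul_eq_mul_right hpos
    linarith [h]
  have hp1 : p ∣ r + 1 := hr ▸ dvd_pow_self p hn
  have hd : p ∣ r * (r + 2) := h5 ▸ hdvd.mul_right _
  have hno : ¬ p ∣ 1 := hp.out.not_dvd_one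
  rcases hp.out.dvd_mul.1 hd with h6 | h6
  · exact hno ((Nat.dvd_add_right h6).1 hp1)
  · exact hno ((Nat.dvd_add_right hp1).1 (by simpa [add_assoc] using h6))

theorem isPGroup_Ubar {p n : ℕ} (hq : Fintype.card F = p ^ n) : IsPGroup p ↥(Ubar F) :=
  IsPGroup.of_card (by rw [card_Ubar, hq])

end PSL2

end Cfsg.Agent.PushUp
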