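/-
The pushing-up situation: an element `g` such that every proper subgroup containing `S^g` meets `S`
inside `O_p(G)`, and the resulting bound `|A : A ∩ O_p(G)| ≤ |V : C_V(A)|` for normal abelian `V`
generated by conjugates of `S`-fixed elements.
-/
import Cfsg.Agent.Lib.PushUp.PSL2Opp
import Cfsg.Agent.Lib.Solvable.Fitting
import Cfsg.Agent.Lib.FGBasics.Sylow
import Cfsg.Prelude.Def_BaumannBlocks
import Mathlib.GroupTheory.FiniteAbelian.Duality
import Mathlib.GroupTheory.Nilpotent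
import Mathlib.Analysis.Complex.Polynomial.Basic
import Mathlib.RingTheory.RootsOfUnity.EnoughRootsOfUnity
import Mathlib.RingTheory.RootsOfUnity.AlgebraicallyClosed

set_option autoImplicit false

namespace Cfsg.Agent.PushUp

open scoped commutatorElement

variable {G : Type*} [Group G] [Finite G] {p : ℕ} [hp : Fact p.Prime]

/-- What is used of the pushing-up situation. -/
structure Sit (p : ℕ) (S : Subgroup G) (g : G) : Prop where
  pgroup : IsPGroup p ↥S
  not_dvd : ¬ p ∣ S.index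
  core_le : Cfsg.pCore p G ≤ S
  self_cent : Subgroup.centralizer (Cfsg.pCore p G : Set G) ≤ Cfsg.pCore p G
  meet : ∀ H : Subgroup G, H ≠ ⊤ → S.map (MulAut.conj g).toMonoidHom ≤ H → H ⊓ S ≤ Cfsg.pCore p G

theorem exists_sit (S : Subgroup G) (hE : Cfsg.IsPushingUpSituation p S) : ∃ g, Sit p S g := by
  obtain ⟨-, ⟨P, hP⟩, hC, ⟨M, ⟨hMco, hSM⟩, hMu⟩, K, hKn, F, hFF, hFT, n, hq, ⟨e⟩⟩ := hE
  subst hP
  have hOS : Cfsg.pCore p G ≤ (P : Subgroup G) := FittingCores.pCore_le_sylow P
  set φ₀ : G →* Matrix.ProjectiveSpecialLinearGroup (Fin 2) F :=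
    e.toMonoidHom.comp (QuotientGroup.mk' K) with hφ₀
  have hs₀ : Function.Surjective φ₀ := e.surjective.comp (QuotientGroup.mk'_surjective K)
  haveI : Finite (Matrix.ProjectiveSpecialLinearGroup (Fin 2) F) := Finite.of_surjective _ hs₀
  let UP : Sylow p (Matrix.ProjectiveSpecialLinearGroup (Fin 2) F) :=
    (isPGroup_Ubar F hq).toSylow (index_Ubar_not_dvd F hq)
  obtain ⟨c, hc⟩ := MulAction.exists_smul_eq (Matrix.ProjectiveSpecialLinearGroup (Fin 2) F)
    (P.mapSurjective hs₀) UP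
  set φ : G →* Matrix.ProjectiveSpecialLinearGroup (Fin 2) F := (MulAut.conj c).toMonoidHom.comp φ₀
    with hφ
  have hs : Function.Surjective φ := (MulAut.conj c).surjective.comp hs₀
  have hSU : (P : Subgroup G).map φ = Ubar F := by
    have h := congrArg (fun T : Sylow p (Matrix.ProjectiveSpecialLinearGroup (Fin 2) F) =>
      T.toSubgroup) hc
    simp only [Sylow.coe_subgroup_smul] at h
    rw [hφ, ← Subgroup.map_map]
    exact h
  have hker : φ.ker = K := by
    ext x
    simp [hφ, hφ₀]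
  obtain ⟨g, hg⟩ := hs (proj F weyl)
  have hone : ∀ b : F, b ≠ 0 → proj F (up b) ≠ 1 := fun b hb h =>
    hb (proj_up_inj F (show proj F (up b) = proj F (up 0) by rw [h, up_zero, map_one]))
  have hUtop : Ubar F ≠ ⊤ := fun h =>
    weyl_conj_ne F (one_ne_zero (α := F)) (by
      rw [h, Subgroup.map_top_of_surjective _ (MulAut.conj _).surjective]
      exact Subgroup.mem_top _)
  have below : ∀ H : Subgroup G, H ≠ ⊤ → (P : Subgroup G) ≤ H → H ≤ M := by
    intro H hH hle
    obtain ⟨M', hM', hHM'⟩ := (eq_top_or_exists_le_coatom H).resolve_left hH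
    rwa [hMu M' ⟨hM', hle.trans hHM'⟩] at hHM'
  have hKM : K ≤ M := by
    refine le_trans le_sup_right (below ((P : Subgroup G) ⊔ K) (fun h => hUtop ?_) le_sup_left)
    have h2 := congrArg (Subgroup.map φ) h
    rw [Subgroup.map_sup, hSU, (Subgroup.map_eq_bot_iff _).2 hker.ge, sup_bot_eq,
      Subgroup.map_top_of_surjective _ hs] at h2
    exact h2
  -- `S ∩ K` is normal, hence lies in the core
  have hSK : (P : Subgroup G) ⊓ K ≤ Cfsg.pCore p G := by
    have hnorm : ((P : Subgroup G) ⊓ K).Normal := by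
      by_contra hn
      have hne : Subgroup.normalizer (((P : Subgroup G) ⊓ K : Subgroup G) : Set G) ≠ ⊤ := fun h =>
        hn (Subgroup.normalizer_eq_top_iff.1 h)
      have hNM := below _ hne (FGBasics.le_normalizer_inf P K)
      apply hMco.1
      rw [eq_top_iff, ← FGBasics.normalizer_inf_sup_eq_top P K]
      exact sup_le hNM hKM
    exact FittingCores.le_pCore hnorm (P.isPGroup'.to_le inf_le_left)
  refine ⟨g, P.isPGroup', P.not_dvd_index, hOS, hC, fun H hH hgH => ?_⟩
  rintro x ⟨hxH, hxP⟩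
  have hne : H.map φ ≠ ⊤ := by
    intro htop
    set H' := H.map (MulAut.conj g⁻¹).toMonoidHom with hH'
    have h1 : H' ≤ M := by
      refine below _ (fun h => hH ?_) ?_
      · exact Subgroup.map_injective (MulAut.conj g⁻¹).injective
          (h.trans (Subgroup.map_top_of_surjective _ (MulAut.conj g⁻¹).surjective).symm)
      · intro y hy
        exact ⟨g * y * g⁻¹, hgH ⟨y, hy, rfl⟩, by simp [mul_assoc]⟩
    apply hMco.1
    rw [eq_top_iff]
    intro y _
    obtain ⟨h, hh, he⟩ : φ (g * y * g⁻¹) ∈ H.map φ := htop ▸ Subgroup.mem_top _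
    have hk : h⁻¹ * (g * y * g⁻¹) ∈ K := by
      rw [← hker, MonoidHom.mem_ker, map_mul, map_inv, he, inv_mul_cancel]
    have e2 : y = g⁻¹ * h * g * (g⁻¹ * (h⁻¹ * (g * y * g⁻¹)) * g) := by group
    rw [e2]
    refine M.mul_mem (h1 ⟨h, hh, by simp [mul_assoc]⟩) (hKM ?_)
    have := hKn.conj_mem _ hk g⁻¹
    rwa [inv_inv] at this
  have h1 : φ x = 1 := by
    refine inf_eq_one F hne ?_ (hSU ▸ ⟨x, hxP, rfl⟩) ⟨x, hxH, rfl⟩
    rw [← hg, ← hSU, Subgroup.map_map]
    rintro _ ⟨y, hy, rfl⟩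
    refine ⟨g * y * g⁻¹, hgH ⟨y, hy, rfl⟩, ?_⟩
    simp [map_mul]
  exact hSK ⟨hxP, hker ▸ MonoidHom.mem_ker.2 h1⟩

variable {S : Subgroup G} {g : G}

theorem Sit.index_coprime (h : Sit p S g) : Nat.Coprime S.index p :=
  ((Nat.Prime.coprime_iff_not_dvd hp.out).2 h.not_dvd).symm

/-- Elements of `Z(S)` lie in the core. -/
theorem Sit.center_le (h : Sit p S g) : S ⊓ Subgroup.centralizer (S : Set G) ≤ Cfsg.pCore p G :=
  fun _ hx => h.self_cent (Subgroup.centralizer_le h.core_le hx.2)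

/-- The normal closure of fixed elements. -/
structure FixGen (p : ℕ) (S V Z : Subgroup G) : Prop where
  normal : V.Normal
  fix : Z ≤ S ⊓ Subgroup.centralizer (S : Set G)
  gen : V = Subgroup.normalClosure (Z : Set G)
  noncentral : ¬ V ≤ Subgroup.center G

theorem fixGen_of (Z : Subgroup G) (hZ : Z ≤ S ⊓ Subgroup.centralizer (S : Set G))
    (hn : ¬ Z ≤ Subgroup.center G) : FixGen p S (Subgroup.normalClosure (Z : Set G)) Z :=
  ⟨Subgroup.normalClosure_normal, hZ, rfl, fun h => hn (Subgroup.subset_normalClosure.trans h)⟩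

variable {V Z : Subgroup G}

theorem FixGen.le_core (h : Sit p S g) (hV : FixGen p S V Z) :
    V ≤ Cfsg.pCore p G ⊓ Subgroup.centralizer (Cfsg.pCore p G : Set G) := by
  haveI := FittingCores.pCore_normal (G := G) p
  rw [hV.gen]
  refine Subgroup.normalClosure_le_normal fun z hz => ⟨h.center_le (hV.fix hz), ?_⟩
  exact Subgroup.centralizer_le h.core_le (hV.fix hz).2

theorem FixGen.comm (h : Sit p S g) (hV : FixGen p S V Z) {u v : G} (hu : u ∈ V) (hv : v ∈ V) :
    u * v = v * u :=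
  (Subgroup.mem_centralizer_iff.1 (hV.le_core h hv).2 u (hV.le_core h hu).1)

/-- `C_S(V)` is the core. -/
theorem FixGen.cent_le (h : Sit p S g) (hV : FixGen p S V Z) :
    Subgroup.centralizer (V : Set G) ⊓ S ≤ Cfsg.pCore p G := by
  haveI := hV.normal
  have hne : Subgroup.centralizer (V : Set G) ⊔ S.map (MulAut.conj g).toMonoidHom ≠ ⊤ := by
    intro htop
    apply hV.noncentral
    have hz : ∀ z ∈ Z, g * z * g⁻¹ ∈ Subgroup.center G := by
      intro z hz
      rw [Subgroup.mem_center_iff]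
      intro y
      have hy : y ∈ Subgroup.centralizer (V : Set G) ⊔ S.map (MulAut.conj g).toMonoidHom :=
        htop ▸ Subgroup.mem_top y
      have hle : Subgroup.centralizer (V : Set G) ⊔ S.map (MulAut.conj g).toMonoidHom ≤
          Subgroup.centralizer {g * z * g⁻¹} := by
        refine sup_le (fun x hx => ?_) ?_
        · rw [Subgroup.mem_centralizer_singleton_iff]
          have hzV : g * z * g⁻¹ ∈ V := hV.normal.conj_mem _ (hV.gen ▸ Subgroup.subset_normalClosure hz) g
          exact (Subgroup.mem_centralizer_iff.1 hx _ hzV).symm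
        · rintro _ ⟨s, hs, rfl⟩
          rw [Subgroup.mem_centralizer_singleton_iff]
          have e := Subgroup.mem_centralizer_iff.1 (hV.fix hz).2 s hs
          show g * s * g⁻¹ * (g * z * g⁻¹) = g * z * g⁻¹ * (g * s * g⁻¹)
          calc g * s * g⁻¹ * (g * z * g⁻¹) = g * (s * z) * g⁻¹ := by group
            _ = g * (z * s) * g⁻¹ := by rw [e]
            _ = _ := by group
      exact (Subgroup.mem_centralizer_singleton_iff.1 (hle hy))
    rw [hV.gen]
    refine Subgroup.normalClosure_le_normal fun z hzZ => ?_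
    have := (inferInstance : (Subgroup.center G).Normal).conj_mem _ (hz z hzZ) g⁻¹
    simpa [mul_assoc] using this
  exact fun x hx => h.meet _ hne le_sup_right ⟨Subgroup.mem_sup_left hx.1, hx.2⟩

theorem FixGen.core_cent (h : Sit p S g) (hV : FixGen p S V Z) :
    Cfsg.pCore p G ≤ Subgroup.centralizer (V : Set G) :=
  Subgroup.le_centralizer_iff.1 ((hV.le_core h).trans inf_le_right)

/-- `[V, S]` is strictly smaller than `[V, G]`. -/
theorem FixGen.comm_lt (h : Sit p S g) (hV : FixGen p S V Z) :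
    ¬ ⁅V, (⊤ : Subgroup G)⁆ ≤ ⁅V, S.map (MulAut.conj g).toMonoidHom⁆ := by
  haveI := hV.normal
  intro hle
  set U := ⁅V, (⊤ : Subgroup G)⁆ with hU
  have hUV : U ≤ V := Subgroup.commutator_le_left V ⊤
  haveI hUn : U.Normal := Subgroup.commutator_normal V ⊤
  -- `V = Z U`
  have hVZU : V ≤ Z ⊔ U := by
    rw [hV.gen, Subgroup.normalClosure, Subgroup.closure_le]
    intro y hy
    rw [Group.mem_conjugatesOfSet_iff] at hy
    obtain ⟨z, hz, hc⟩ := hy
    obtain ⟨x, rfl⟩ := isConj_iff.1 hc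
    have e : x * z * x⁻¹ = ⁅z, x⁆⁻¹ * z := by simp [commutatorElement_def, mul_assoc]
    rw [e]
    refine Subgroup.mul_mem _ (Subgroup.mem_sup_right (U.inv_mem ?_)) (Subgroup.mem_sup_left hz)
    exact Subgroup.commutator_mem_commutator (hV.gen ▸ Subgroup.subset_normalClosure hz)
      (Subgroup.mem_top x)
  have hVS : ⁅V, S⁆ ≤ ⁅U, S⁆ := by
    rw [Subgroup.commutator_le]
    intro v hv s hs
    obtain ⟨u, hu, z, hz, rfl⟩ := Subgroup.mem_sup_of_normal_left.1 ((sup_comm Z U) ▸ hVZU hv)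
    have e : z * s = s * z := (Subgroup.mem_centralizer_iff.1 (hV.fix hz).2 s hs).symm
    have e2 : ⁅u * z, s⁆ = ⁅u, s⁆ := by
      simp only [commutatorElement_def, mul_inv_rev]
      calc u * z * s * (z⁻¹ * u⁻¹) * s⁻¹ = u * (z * s) * z⁻¹ * u⁻¹ * s⁻¹ := by group
        _ = u * (s * z) * z⁻¹ * u⁻¹ * s⁻¹ := by rw [e]
        _ = u * s * u⁻¹ * s⁻¹ := by group
    rw [e2]
    exact Subgroup.commutator_mem_commutator hu hs
  -- hence `U = [U,S]`
  have hUS : U ≤ ⁅U, S⁆ := by
    intro x hx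
    have h1 : g * x * g⁻¹ ∈ ⁅V, S.map (MulAut.conj g).toMonoidHom⁆ := hle (hUn.conj_mem _ hx g)
    have e : ⁅V, S.map (MulAut.conj g).toMonoidHom⁆ = ⁅V, S⁆.map (MulAut.conj g).toMonoidHom := by
      rw [Subgroup.map_commutator]
      congr 1
      ext y
      constructor
      · intro hy
        exact ⟨g⁻¹ * y * g⁻¹⁻¹, hV.normal.conj_mem _ hy g⁻¹, by simp [mul_assoc]⟩
      · rintro ⟨y, hy, rfl⟩
        exact hV.normal.conj_mem _ hy g
    rw [e] at h1
    obtain ⟨y, hy, hye⟩ := h1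
    have : y = x := (MulAut.conj g).injective hye
    exact hVS (this ▸ hy)
  -- nilpotency of `S`
  haveI := h.pgroup.isNilpotent
  have hUleS : U ≤ S := hUV.trans ((hV.le_core h).trans (inf_le_left.trans h.core_le))
  have hk : ∀ k, U ≤ ((⊤ : Subgroup ↥S).lowerCentralSeries k).map S.subtype := by
    intro k
    induction k with
    | zero =>
      intro x hx
      exact ⟨⟨x, hUleS hx⟩, by simp, rfl⟩
    | succ k ih =>
      refine hUS.trans ?_
      rw [Subgroup.commutator_le]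
      intro u hu s hs
      obtain ⟨u', hu', rfl⟩ := ih hu
      refine ⟨⁅u', ⟨s, hs⟩⁆, ?_, by simp [commutatorElement_def]⟩
      exact Subgroup.commutator_mem_commutator hu' (Subgroup.mem_top _)
  obtain ⟨k, hkn⟩ := Subgroup.nilpotent_iff_lowerCentralSeries.1 ‹Group.IsNilpotent ↥S›
  have hbot : U = ⊥ := by
    have := hk k
    rwa [hkn, Subgroup.map_bot, le_bot_iff] at this
  exact hV.noncentral fun v hv => by
    rw [Subgroup.mem_center_iff]
    intro x
    have : ⁅v, x⁆ ∈ U := Subgroup.commutator_mem_commutator hv (Subgroup.mem_top x)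
    rw [hbot, Subgroup.mem_bot, commutatorElement_eq_one_iff_mul_comm] at this
    exact this.symm

open scoped Pointwise in
/-- **Offender bound.** -/
theorem FixGen.bound (h : Sit p S g) (hV : FixGen p S V Z) (A : Subgroup G) (hA : A ≤ S) :
    Nat.card ↥A * Nat.card ↥(V ⊓ Subgroup.centralizer (A : Set G)) ≤
      Nat.card ↥(A ⊓ Cfsg.pCore p G) * Nat.card ↥V := by
  classical
  haveI := hV.normal
  let _ : CommGroup ↥V :=
    { (inferInstance : Group ↥V) with
      mul_comm := fun a b => Subtype.ext (hV.comm h a.2 b.2) }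
  set W : Subgroup ↥V := (⁅V, S.map (MulAut.conj g).toMonoidHom⁆).subgroupOf V with hW
  obtain ⟨u₀, hu₀, hu₀W⟩ := Set.not_subset.1 (hV.comm_lt h)
  have hu₀V : u₀ ∈ V := Subgroup.commutator_le_left V ⊤ hu₀
  obtain ⟨φ₀, hφ₀⟩ := CommGroup.exists_apply_ne_one_of_hasEnoughRootsOfUnity (↥V ⧸ W) ℂ
    (a := QuotientGroup.mk' W ⟨u₀, hu₀V⟩) (by
      rw [Ne, QuotientGroup.mk'_apply, QuotientGroup.eq_one_iff]
      exact hu₀W)
  set φ : ↥V →* ℂˣ := φ₀.comp (QuotientGroup.mk' W) with hφ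
  let act : G → ↥V → ↥V := fun a v => ⟨a * v.1 * a⁻¹, hV.normal.conj_mem _ v.2 a⟩
  have act_mul : ∀ a b v, act (a * b) v = act a (act b v) := fun a b v => Subtype.ext (by
    show a * b * v.1 * (a * b)⁻¹ = a * (b * v.1 * b⁻¹) * a⁻¹; group)
  have act_one : ∀ v, act 1 v = v := fun v => Subtype.ext (by
    show (1 : G) * v.1 * 1⁻¹ = v.1; group)
  let Hφ : Subgroup G :=
    { carrier := {a | ∀ v, φ (act a v) = φ v}
      one_mem' := fun v => by rw [act_one]
      mul_mem' := fun {a b} ha hb v => by rw [act_mul, ha, hb]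
      inv_mem' := fun {a} ha v => by
        conv_rhs => rw [← act_one v, ← mul_inv_cancel a, act_mul, ha] }
  have hφcomm : ∀ (v : ↥V) (a : G), φ (act a v) = φ v ↔
      φ ⟨⁅(v : G), a⁆, Subgroup.commutator_le_left V ⊤
        (Subgroup.commutator_mem_commutator v.2 (Subgroup.mem_top a))⟩ = 1 := by
    intro v a
    have e : (⟨⁅(v : G), a⁆, Subgroup.commutator_le_left V ⊤
        (Subgroup.commutator_mem_commutator v.2 (Subgroup.mem_top a))⟩ : ↥V) = v * (act a v)⁻¹ :=
      Subtype.ext (by simp [act, commutatorElement_def, mul_assoc])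
    rw [e, map_mul, map_inv, mul_inv_eq_one]
    exact eq_comm
  have hSg : S.map (MulAut.conj g).toMonoidHom ≤ Hφ := by
    intro a ha v
    rw [hφcomm, hφ, MonoidHom.comp_apply, QuotientGroup.mk'_apply]
    rw [(QuotientGroup.eq_one_iff _).2 (Subgroup.mem_subgroupOf.2
      (Subgroup.commutator_mem_commutator v.2 ha)), map_one]
  have htop : Hφ ≠ ⊤ := by
    intro heq
    apply hφ₀
    have key : ∀ (x : G) (hx : x ∈ ⁅V, (⊤ : Subgroup G)⁆),
        φ ⟨x, Subgroup.commutator_le_left V ⊤ hx⟩ = 1 := by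
      intro x hx
      have hx' := hx
      rw [Subgroup.commutator_def] at hx'
      induction hx' using Subgroup.closure_induction with
      | mem y hy =>
        obtain ⟨v, hv, a, -, rfl⟩ := hy
        exact (hφcomm ⟨v, hv⟩ a).1 ((heq ▸ Subgroup.mem_top a : a ∈ Hφ) ⟨v, hv⟩)
      | one => exact map_one φ
      | mul a b ha hb iha ihb =>
        rw [← Subgroup.commutator_def] at ha hb
        rw [show (⟨a * b, _⟩ : ↥V) = ⟨a, Subgroup.commutator_le_left V ⊤ ha⟩ *
          ⟨b, Subgroup.commutator_le_left V ⊤ hb⟩ from rfl, map_mul, iha ha, ihb hb, one_mul]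
      | inv a ha iha =>
        rw [← Subgroup.commutator_def] at ha
        rw [show (⟨a⁻¹, _⟩ : ↥V) = ⟨a, Subgroup.commutator_le_left V ⊤ ha⟩⁻¹ from rfl, map_inv,
          iha ha, inv_one]
    exact key u₀ hu₀
  have hmeet := h.meet Hφ htop hSg
  set D : Subgroup ↥V := (V ⊓ Subgroup.centralizer (A : Set G)).subgroupOf V with hD
  let F : ↥A → (↥V ⧸ D →* ℂˣ) := fun a => QuotientGroup.lift D
    { toFun := fun v => φ (act a.1 v) / φ v
      map_one' := by
        show φ (act a.1 1) / φ 1 = 1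
        rw [show act a.1 1 = 1 from Subtype.ext (by simp [act]), div_self']
      map_mul' := fun v w => by
        rw [show act a.1 (v * w) = act a.1 v * act a.1 w from Subtype.ext (by simp [act, mul_assoc]),
          map_mul, map_mul, mul_div_mul_comm] }
    (by
      intro v hv
      rw [MonoidHom.mem_ker]
      show φ (act a.1 v) / φ v = 1
      have hv' := (Subgroup.mem_subgroupOf.1 hv).2
      rw [show act a.1 v = v from Subtype.ext (by
        show a.1 * v.1 * a.1⁻¹ = v.1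
        rw [Subgroup.mem_centralizer_iff.1 hv' a.1 a.2, mul_inv_cancel_right]), div_self'])
  have hfib : ∀ a b : ↥A, F a = F b → a.1⁻¹ * b.1 ∈ A ⊓ Cfsg.pCore p G := by
    intro a b hab
    have hmem : ∀ v, φ (act a.1 v) = φ (act b.1 v) := fun v => by
      have h1 := DFunLike.congr_fun hab (QuotientGroup.mk v)
      have h1' : φ (act a.1 v) / φ v = φ (act b.1 v) / φ v := h1
      exact div_left_injective h1'
    have e' : ∀ w, φ (act (b.1 * a.1⁻¹) w) = φ w := fun w => by
      have e := hmem (act a.1⁻¹ w)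
      rw [← act_mul, ← act_mul, mul_inv_cancel, act_one] at e
      exact e.symm
    have hba : b.1 * a.1⁻¹ ∈ Hφ ⊓ S := ⟨e', S.mul_mem (hA b.2) (S.inv_mem (hA a.2))⟩
    have hO' := (FittingCores.pCore_normal (G := G) p).conj_mem _ (hmeet hba) a.1⁻¹
    rw [show a.1⁻¹ * (b.1 * a.1⁻¹) * a.1⁻¹⁻¹ = a.1⁻¹ * b.1 by group] at hO'
    exact ⟨A.mul_mem (A.inv_mem a.2) b.2, hO'⟩
  set A₀ : Subgroup ↥A := (A ⊓ Cfsg.pCore p G).subgroupOf A with hA₀
  have hA₀card : Nat.card ↥A₀ = Nat.card ↥(A ⊓ Cfsg.pCore p G) :=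
    Nat.card_congr (Subgroup.subgroupOfEquivOfLe inf_le_left).toEquiv
  let f : ↥A → (↥V ⧸ D →* ℂˣ) := F
  haveI : Finite (↥V ⧸ D →* ℂˣ) :=
    Finite.of_equiv _ (CommGroup.monoidHom_mulEquiv_of_hasEnoughRootsOfUnity (↥V ⧸ D) ℂ).some.symm.toEquiv
  have hcardD : Nat.card (↥V ⧸ D →* ℂˣ) = Nat.card (↥V ⧸ D) :=
    Nat.card_congr (CommGroup.monoidHom_mulEquiv_of_hasEnoughRootsOfUnity (↥V ⧸ D) ℂ).some.toEquiv
  have hle : Nat.card ↥A ≤ Nat.card (↥V ⧸ D) * Nat.card ↥A₀ := by
    rw [← hcardD, ← Nat.card_prod]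
    have sec : ∀ c ∈ Set.range f, ∃ a, f a = c := fun c hc => hc
    choose sc hsc using sec
    let enc : ↥A → (↥V ⧸ D →* ℂˣ) × ↥A₀ := fun a =>
      (f a, ⟨(sc (f a) ⟨a, rfl⟩)⁻¹ * a, hfib _ _ (hsc (f a) ⟨a, rfl⟩)⟩)
    refine Nat.card_le_card_of_injective enc fun a b hab => ?_
    obtain ⟨h1, h2⟩ := Prod.ext_iff.1 hab
    have h3 := congrArg Subtype.val h2
    have key : ∀ c c' : (↥V ⧸ D →* ℂˣ), ∀ hc hc', c = c' → sc c hc = sc c' hc' := by
      intro c c' hc hc' he; subst he; rfl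
    simp only [enc] at h1 h3
    rw [show sc (f a) ⟨a, rfl⟩ = sc (f b) ⟨b, rfl⟩ from key _ _ _ _ h1] at h3
    exact mul_left_cancel h3
  have hVD := Subgroup.card_eq_card_quotient_mul_card_subgroup D
  have hDcard : Nat.card ↥D = Nat.card ↥(V ⊓ Subgroup.centralizer (A : Set G)) :=
    Nat.card_congr (Subgroup.subgroupOfEquivOfLe inf_le_left).toEquiv
  calc Nat.card ↥A * Nat.card ↥(V ⊓ Subgroup.centralizer (A : Set G))
      ≤ Nat.card (↥V ⧸ D) * Nat.card ↥A₀ * Nat.card ↥D := by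
        rw [hDcard]; exact Nat.mul_le_mul_right _ hle
    _ = Nat.card ↥A₀ * (Nat.card (↥V ⧸ D) * Nat.card ↥D) := by ring
    _ = _ := by rw [← hVD, hA₀card]

end Cfsg.Agent.PushUp
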