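/-
Pushing up: minimal centrally large subgroups of a Sylow subgroup can be pushed into the core.
-/
import Cfsg.Agent.Lib.PushUp.Offender
import Cfsg.Agent.Lib.CentrallyLarge.Minimal
import Cfsg.Agent.Lib.LocalEven.Frattini
import Cfsg.Agent.Lib.FGStruct.MaximalCount

set_option autoImplicit false

namespace Cfsg.Agent.PushUp

open Subgroup
open scoped commutatorElement

section Abstract

variable {P : Type*} [Group P] [Finite P]

/-- Pushing a minimal centrally large subgroup into `O`. -/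
theorem push {O V Q : Subgroup P} (hVO : V ≤ O) (hOV : O ≤ centralizer (V : Set P))
    (hb : ∀ A : Subgroup P, Nat.card ↥A * Nat.card ↥(V ⊓ centralizer (A : Set P)) ≤
      Nat.card ↥(A ⊓ O) * Nat.card ↥V)
    (hQ : IsMinimalCentrallyLarge Q) :
    IsMinimalCentrallyLarge (Q ⊓ O ⊔ V) ∧
      centralizer ((Q ⊓ O ⊔ V : Subgroup P) : Set P) = centralizer (Q : Set P) ⊓ O ⊔ V ∧
      V ⊓ Q = V ⊓ centralizer (Q : Set P) ∧
      Nat.card ↥(centralizer (Q : Set P)) * Nat.card ↥(V ⊓ centralizer (Q : Set P)) =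
        Nat.card ↥(centralizer (Q : Set P) ⊓ O) * Nat.card ↥V := by
  have hQl := CLarge.cl_large hQ.1
  have hle := CLarge.cl_le hQ.1
  set Z := centralizer (Q : Set P) with hZ
  set R := Q ⊓ O ⊔ V with hR
  set C := Z ⊓ O ⊔ V with hC
  have hCR : C ≤ R := sup_le ((inf_le_inf_right O hle).trans le_sup_left) le_sup_right
  have hVV : V ≤ centralizer (V : Set P) := hVO.trans hOV
  have hCc : C ≤ centralizer (R : Set P) := by
    rw [hR, Product.centralizer_sup]
    refine sup_le (le_inf ?_ (inf_le_right.trans hOV)) (le_inf ?_ hVV)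
    · exact inf_le_left.trans (centralizer_le inf_le_left)
    · exact le_centralizer_iff.1 (inf_le_right.trans hOV)
  have i1 : Q ⊓ O ⊓ V = V ⊓ Q := by
    rw [inf_assoc, inf_of_le_right hVO, inf_comm]
  have i2 : Z ⊓ O ⊓ V = V ⊓ Z := by
    rw [inf_assoc, inf_of_le_right hVO, inf_comm]
  have b1 := hb Q
  have b2 := hb Z
  rw [CLarge.centralizer_centralizer hQl] at b2
  have s1 := Product.card_mul_card_le (Q ⊓ O) V
  have s2 := Product.card_mul_card_le (Z ⊓ O) V
  rw [i1] at s1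
  rw [i2] at s2
  rw [← hR] at s1
  rw [← hC] at s2
  have hg : Nat.card ↥Q * Nat.card ↥Z = maxCentralizerProduct P := hQl
  have hCcard := card_le_of_le hCc
  have hmeas : Nat.card ↥R * Nat.card ↥(centralizer (R : Set P)) ≤ maxCentralizerProduct P :=
    CLarge.measure_le R
  set a := Nat.card ↥Q
  set z := Nat.card ↥Z
  set a0 := Nat.card ↥(Q ⊓ O : Subgroup P)
  set z0 := Nat.card ↥(Z ⊓ O : Subgroup P)
  set v := Nat.card ↥V
  set i := Nat.card ↥(V ⊓ Q : Subgroup P)
  set j := Nat.card ↥(V ⊓ Z : Subgroup P)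
  set r := Nat.card ↥R
  set c := Nat.card ↥C
  set cr := Nat.card ↥(centralizer (R : Set P))
  have pi : 0 < i := Nat.card_pos
  have pj : 0 < j := Nat.card_pos
  have pa : 0 < a := Nat.card_pos
  have pz : 0 < z := Nat.card_pos
  have e0 : r * cr ≤ a * z := hg ▸ hmeas
  have chain : (r * i) * (c * j) ≤ (a * j) * (z * i) := by
    calc (r * i) * (c * j) = (r * c) * (i * j) := by ring
      _ ≤ (r * cr) * (i * j) := Nat.mul_le_mul_right _ (Nat.mul_le_mul_left _ hCcard)
      _ ≤ (a * z) * (i * j) := Nat.mul_le_mul_right _ e0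
      _ = _ := by ring
  have q1 : a * j = r * i :=
    CLarge.eq_of_le_of_mul_eq (b1.trans s1) (b2.trans s2) (Nat.mul_pos pz pi) chain
  have q2 : z * i = c * j :=
    CLarge.eq_of_le_of_mul_eq (b2.trans s2) (b1.trans s1) (Nat.mul_pos pa pj)
      (by rw [mul_comm (c * j), mul_comm (z * i)]; exact chain)
  have q3 : a * z = r * c := by
    apply Nat.eq_of_mul_eq_mul_right (Nat.mul_pos pi pj)
    calc a * z * (i * j) = (a * j) * (z * i) := by ring
      _ = (r * i) * (c * j) := by rw [q1, q2]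
      _ = _ := by ring
  have hcr : cr = c := le_antisymm
    (Nat.le_of_mul_le_mul_left (q3 ▸ e0) Nat.card_pos) hCcard
  have hCeq : centralizer (R : Set P) = C := (eq_of_le_of_card_ge hCc hcr.le).symm
  have hRcl : IsCentrallyLarge R := by
    refine CLarge.cl_iff.2 ⟨CLarge.large_of_le ?_, hCeq ▸ hCR⟩
    show maxCentralizerProduct P ≤ r * cr
    rw [hcr, ← q3, hg]
  obtain ⟨R', hR'R, hR'⟩ := CLarge.exists_mcl_le hRcl
  have hji : j ≤ i := card_le_of_le (inf_le_inf_left V hle)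
  have hra : r ≤ a := Nat.le_of_mul_le_mul_right (q1 ▸ Nat.mul_le_mul_left a hji) pi
  have hR'eq : R' = R := eq_of_le_of_card_ge hR'R (hra.trans (CLarge.mcl_cards hQ hR').1.le)
  have hRm : IsMinimalCentrallyLarge R := hR'eq ▸ hR'
  have hij : i = j := by
    have := (CLarge.mcl_cards hQ hRm).1
    have h' : a * j = a * i := by rw [q1]; exact congrArg (· * i) this.symm
    exact (Nat.eq_of_mul_eq_mul_left pa h').symm
  have hVQ : V ⊓ Q = V ⊓ Z := (eq_of_le_of_card_ge (inf_le_inf_left V hle) hij.le).symm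
  refine ⟨hRm, hCeq, hVQ, ?_⟩
  refine le_antisymm ?_ ?_
  · calc z * j = z * i := by rw [hij]
      _ ≤ z0 * v := b2
  · calc z0 * v ≤ c * j := s2
      _ = z * j := by rw [← q2, hij]

theorem omegaOneCenter_eq (p : ℕ) (X : Subgroup P) :
    Cfsg.omegaOneCenter p X = (Cfsg.omegaOne p (center ↥X)).map X.subtype := by
  rw [Cfsg.omegaOneCenter, Cfsg.omegaOne, Cfsg.omegaOne, MonoidHom.map_closure]
  congr 1
  ext x
  constructor
  · rintro ⟨⟨hxX, hxc⟩, hxp⟩
    refine ⟨⟨x, hxX⟩, ⟨mem_center_iff.2 fun y => Subtype.ext ?_, Subtype.ext (by simpa using hxp)⟩, rfl⟩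
    exact mem_centralizer_iff.1 hxc y y.2
  · rintro ⟨⟨y, hy⟩, ⟨hc, hp⟩, rfl⟩
    exact ⟨⟨hy, mem_centralizer_iff.2 fun w hw =>
      congrArg Subtype.val (mem_center_iff.1 hc ⟨w, hw⟩)⟩, by simpa using congrArg Subtype.val hp⟩

theorem omegaOneCenter_card (p : ℕ) (X : Subgroup P) :
    Nat.card ↥(Cfsg.omegaOneCenter p X) = Nat.card ↥(Cfsg.omegaOne p (center ↥X)) := by
  rw [omegaOneCenter_eq, card_map_of_injective X.subtype_injective]

theorem omega_card_congr {A B : Type*} [Group A] [Group B] (p : ℕ) (e : A ≃* B) :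
    Nat.card ↥(Cfsg.omegaOne p (center A)) = Nat.card ↥(Cfsg.omegaOne p (center B)) := by
  have : (Cfsg.omegaOne p (center A)).map e.toMonoidHom = Cfsg.omegaOne p (center B) := by
    rw [Cfsg.omegaOne, Cfsg.omegaOne, MonoidHom.map_closure]
    congr 1
    ext x
    constructor
    · rintro ⟨y, ⟨hc, hp⟩, rfl⟩
      refine ⟨mem_center_iff.2 fun w => ?_, by show e y ^ p = 1; rw [← map_pow, hp, map_one]⟩
      obtain ⟨w, rfl⟩ := e.surjective w
      show e w * e y = e y * e w
      rw [← map_mul, ← map_mul, mem_center_iff.1 hc w]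
    · rintro ⟨hc, hp⟩
      refine ⟨e.symm x, ⟨mem_center_iff.2 fun w => e.injective ?_, e.injective ?_⟩, e.apply_symm_apply x⟩
      · simp [mem_center_iff.1 hc (e w)]
      · simp [hp]
  rw [← this, card_map_of_injective e.injective]

/-- commutators and `p`-th powers -/
def powComm {G : Type*} [Group G] (p : ℕ) (X : Subgroup G) : Subgroup G :=
  Subgroup.closure ({z | ∃ a ∈ X, ∃ b ∈ X, z = ⁅a, b⁆} ∪ {z | ∃ a ∈ X, z = a ^ p})

theorem powComm_map {G H : Type*} [Group G] [Group H] (f : G →* H) (p : ℕ) (X : Subgroup G) :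
    (powComm p X).map f = powComm p (X.map f) := by
  rw [powComm, powComm, MonoidHom.map_closure]
  congr 1
  ext z
  constructor
  · rintro ⟨y, (⟨a, ha, b, hb, rfl⟩ | ⟨a, ha, rfl⟩), rfl⟩
    · exact Or.inl ⟨f a, ⟨a, ha, rfl⟩, f b, ⟨b, hb, rfl⟩, map_commutatorElement f a b⟩
    · exact Or.inr ⟨f a, ⟨a, ha, rfl⟩, map_pow f a p⟩
  · rintro (⟨_, ⟨a, ha, rfl⟩, _, ⟨b, hb, rfl⟩, rfl⟩ | ⟨_, ⟨a, ha, rfl⟩, rfl⟩)
    · exact ⟨⁅a, b⁆, Or.inl ⟨a, ha, b, hb, rfl⟩, map_commutatorElement f a b⟩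
    · exact ⟨a ^ p, Or.inr ⟨a, ha, rfl⟩, map_pow f a p⟩

theorem frattini_eq_powComm {p : ℕ} [Fact p.Prime] (hP : IsPGroup p P) (X : Subgroup P) :
    (frattini ↥X).map X.subtype = powComm p X := by
  refine le_antisymm ?_ ?_
  · rw [map_le_iff_le_comap]
    refine LEFrattini.frattini_le (p := p) (fun x y => ?_) (fun x => ?_)
    · exact subset_closure (Or.inl ⟨x, x.2, y, y.2, map_commutatorElement X.subtype x y⟩)
    · exact subset_closure (Or.inr ⟨x, x.2, map_pow X.subtype x p⟩)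
  · rw [powComm, closure_le]
    rintro z (⟨a, ha, b, hb, rfl⟩ | ⟨a, ha, rfl⟩)
    · exact ⟨_, MaximalCount.comm_mem_frattini (p := p) (hP.to_subgroup X) ⟨a, ha⟩ ⟨b, hb⟩,
        by simp [commutatorElement_def]⟩
    · exact ⟨_, MaximalCount.mem_frattini_pow (p := p) (hP.to_subgroup X) ⟨a, ha⟩, by simp⟩

/-- An elementary central factor does not change commutators and powers. -/
theorem powComm_sup {p : ℕ} (H E : Subgroup P) (hc : E ≤ centralizer ((H ⊔ E : Subgroup P) : Set P))
    (hp : ∀ e ∈ E, e ^ p = 1) : powComm p (H ⊔ E) = powComm p H := by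
  refine le_antisymm ?_ (closure_mono ?_)
  · rw [powComm, closure_le]
    have hnorm : H ≤ normalizer (E : Set P) := by
      intro x hx
      rw [mem_normalizer_iff]
      intro y
      constructor
      · intro hy
        have := mem_centralizer_iff.1 (hc hy) x (mem_sup_left hx)
        rw [this, mul_inv_cancel_right]; exact hy
      · intro hy
        have := mem_centralizer_iff.1 (hc hy) x (mem_sup_left hx)
        have e : y = x * y * x⁻¹ := by
          have h2 : x * (x * y * x⁻¹) = x * y * x⁻¹ * x := this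
          rw [inv_mul_cancel_right] at h2
          exact (mul_left_cancel h2).symm
        rw [e]; exact hy
    have dec : ∀ a ∈ H ⊔ E, ∃ h ∈ H, ∃ e ∈ E, h * e = a := by
      intro a ha
      have := Subgroup.coe_mul_of_left_le_normalizer_right H E hnorm ▸ (show a ∈ ((H ⊔ E : Subgroup P) : Set P) from ha)
      obtain ⟨h, hh, e, he, rfl⟩ := this
      exact ⟨h, hh, e, he, rfl⟩
    rintro z (⟨a, ha, b, hb, rfl⟩ | ⟨a, ha, rfl⟩)
    · obtain ⟨h, hh, e, he, rfl⟩ := dec a ha
      obtain ⟨k, hk, f, hf, rfl⟩ := dec b hb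
      have c1 : ∀ w ∈ H ⊔ E, w * e = e * w := mem_centralizer_iff.1 (hc he)
      have c2 : ∀ w ∈ H ⊔ E, w * f = f * w := mem_centralizer_iff.1 (hc hf)
      have : ⁅h * e, k * f⁆ = ⁅h, k⁆ := by
        simp only [commutatorElement_def, mul_inv_rev]
        calc h * e * (k * f) * (e⁻¹ * h⁻¹) * (f⁻¹ * k⁻¹)
            = h * (e * (k * f)) * e⁻¹ * h⁻¹ * f⁻¹ * k⁻¹ := by group
          _ = h * ((k * f) * e) * e⁻¹ * h⁻¹ * f⁻¹ * k⁻¹ := by rw [c1 _ hb |>.symm |> fun q => q]
          _ = h * k * (f * h⁻¹) * f⁻¹ * k⁻¹ := by group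
          _ = h * k * (h⁻¹ * f) * f⁻¹ * k⁻¹ := by rw [c2 h⁻¹ (mem_sup_left (inv_mem hh))]
          _ = h * k * h⁻¹ * k⁻¹ := by group
      rw [this]
      exact subset_closure (Or.inl ⟨h, hh, k, hk, rfl⟩)
    · obtain ⟨h, hh, e, he, rfl⟩ := dec a ha
      have c1 : Commute h e := mem_centralizer_iff.1 (hc he) h (mem_sup_left hh)
      rw [c1.mul_pow, hp e he, mul_one]
      exact subset_closure (Or.inr ⟨h, hh, rfl⟩)
  · rintro z (⟨a, ha, b, hb, rfl⟩ | ⟨a, ha, rfl⟩)
    · exact Or.inl ⟨a, mem_sup_left ha, b, mem_sup_left hb, rfl⟩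
    · exact Or.inr ⟨a, mem_sup_left ha, rfl⟩

theorem mcl_map {B : Type*} [Group B] [Finite B] (e : P ≃* B) {Q : Subgroup P}
    (hQ : IsMinimalCentrallyLarge Q) : IsMinimalCentrallyLarge (Q.map e.toMonoidHom) := by
  have hval : ∀ X : Subgroup P, Nat.card ↥(X.map e.toMonoidHom) *
      Nat.card ↥(center ↥(X.map e.toMonoidHom)) = Nat.card ↥X * Nat.card ↥(center ↥X) := fun X => by
    rw [card_map_of_injective e.injective,
      Nat.card_congr (Subgroup.centerCongr (X.equivMapOfInjective e.toMonoidHom e.injective)).toEquiv]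
  have hmax : maxCentralProduct B = maxCentralProduct P := by
    unfold maxCentralProduct
    congr 1
    ext k
    constructor
    · rintro ⟨R, rfl⟩
      refine ⟨R.comap e.toMonoidHom, ?_⟩
      rw [← hval, map_comap_eq_self_of_surjective e.surjective]
    · rintro ⟨R, rfl⟩
      exact ⟨R.map e.toMonoidHom, hval R⟩
  refine ⟨?_, fun R hR hRcl => ?_⟩
  · unfold IsCentrallyLarge
    rw [hval, hmax]; exact hQ.1
  · have h1 : IsCentrallyLarge (R.comap e.toMonoidHom) := by
      unfold IsCentrallyLarge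
      rw [← hval, map_comap_eq_self_of_surjective e.surjective, ← hmax]; exact hRcl
    have h2 : R.comap e.toMonoidHom ≤ Q := fun x hx => by
      obtain ⟨y, hy, he⟩ := hR hx
      exact e.injective he ▸ hy
    rw [← hQ.2 _ h2 h1, map_comap_eq_self_of_surjective e.surjective]

theorem commutator_mcl_eq {Q R : Subgroup P} (hQ : IsMinimalCentrallyLarge Q)
    (hR : IsMinimalCentrallyLarge R) : ⁅Q, Q⁆ = ⁅R, R⁆ := by
  rw [CLarge.commutator_mcl hQ hR, CLarge.commutator_mcl hR hQ, inf_comm]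

end Abstract

/-! ### Inside the ambient group -/

variable {G : Type*} [Group G] [Finite G] {p : ℕ} [hp : Fact p.Prime] {S : Subgroup G} {g : G}

/-- the core as a subgroup of `S` -/
abbrev coreS (p : ℕ) (S : Subgroup G) : Subgroup ↥S := (Cfsg.pCore p G).subgroupOf S

/-- the conjugate of a subgroup of `S` -/
def conjS (S : Subgroup G) (x : G) (R : Subgroup ↥S) : Subgroup ↥S :=
  ((R.map S.subtype).map (MulAut.conj x).toMonoidHom).subgroupOf S

theorem Sit.map_coreS (h : Sit p S g) : (coreS p S).map S.subtype = Cfsg.pCore p G := by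
  rw [Subgroup.subgroupOf_map_subtype]
  exact inf_of_le_left h.core_le

theorem Sit.conj_le_core (h : Sit p S g) (x : G) {R : Subgroup ↥S} (hR : R ≤ coreS p S) :
    (R.map S.subtype).map (MulAut.conj x).toMonoidHom ≤ Cfsg.pCore p G := by
  rintro _ ⟨_, ⟨r, hr, rfl⟩, rfl⟩
  exact (FittingCores.pCore_normal (G := G) p).conj_mem _ (hR hr) x

theorem Sit.map_conjS (h : Sit p S g) (x : G) {R : Subgroup ↥S} (hR : R ≤ coreS p S) :
    (conjS S x R).map S.subtype = (R.map S.subtype).map (MulAut.conj x).toMonoidHom := by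
  rw [conjS, Subgroup.subgroupOf_map_subtype]
  exact inf_of_le_left ((h.conj_le_core x hR).trans h.core_le)

theorem Sit.conjS_le (h : Sit p S g) (x : G) {R : Subgroup ↥S} (hR : R ≤ coreS p S) :
    conjS S x R ≤ coreS p S := fun _ hr => h.conj_le_core x hR hr

/-- a subgroup and its conjugate are isomorphic -/
noncomputable def Sit.conjEquiv (h : Sit p S g) (x : G) {R : Subgroup ↥S} (hR : R ≤ coreS p S) :
    ↥R ≃* ↥(conjS S x R) :=
  ((R.equivMapOfInjective S.subtype S.subtype_injective).trans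
    ((R.map S.subtype).equivMapOfInjective _ (MulAut.conj x).injective)).trans
    (Subgroup.subgroupOfEquivOfLe ((h.conj_le_core x hR).trans h.core_le)).symm

theorem Sit.conjS_mcl (h : Sit p S g) (x : G) {R : Subgroup ↥S} (hR : R ≤ coreS p S)
    (hm : IsMinimalCentrallyLarge R) : IsMinimalCentrallyLarge (conjS S x R) := by
  have hval : ∀ (y : G) (X : Subgroup ↥S), X ≤ coreS p S →
      Nat.card ↥(conjS S y X) * Nat.card ↥(center ↥(conjS S y X)) = Nat.card ↥X * Nat.card ↥(center ↥X) :=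
    fun y X hX => by
      rw [Nat.card_congr (h.conjEquiv y hX).toEquiv,
        Nat.card_congr (Subgroup.centerCongr (h.conjEquiv y hX)).toEquiv]
  refine ⟨?_, fun R' hR' hcl => ?_⟩
  · unfold IsCentrallyLarge
    rw [hval x R hR]; exact hm.1
  · have hR'O : R' ≤ coreS p S := hR'.trans (h.conjS_le x hR)
    have hle : conjS S x⁻¹ R' ≤ R := by
      intro r hr
      obtain ⟨_, ⟨r', hr', rfl⟩, he⟩ := Subgroup.mem_subgroupOf.1 hr
      obtain ⟨_, ⟨r'', hr'', rfl⟩, he'⟩ := Subgroup.mem_subgroupOf.1 (hR' hr')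
      have e : (r : G) = r'' := by
        rw [← he]
        show x⁻¹ * (r' : G) * x⁻¹⁻¹ = r''
        rw [← show x * (r'' : G) * x⁻¹ = r' from he']
        group
      exact (Subtype.ext e : r = r'') ▸ hr''
    have hcl' : IsCentrallyLarge (conjS S x⁻¹ R') := by
      unfold IsCentrallyLarge
      rw [hval x⁻¹ R' hR'O]; exact hcl
    have hc := congrArg (fun X : Subgroup ↥S => Nat.card ↥X) (hm.2 _ hle hcl')
    refine eq_of_le_of_card_ge hR' ?_
    rw [Nat.card_congr (h.conjEquiv x hR).symm.toEquiv, ← hc,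
      Nat.card_congr (h.conjEquiv x⁻¹ hR'O).symm.toEquiv]

theorem Sit.conjS_omega (h : Sit p S g) (x : G) {R : Subgroup ↥S} (hR : R ≤ coreS p S) :
    Nat.card ↥(Cfsg.omegaOneCenter p (conjS S x R)) = Nat.card ↥(Cfsg.omegaOneCenter p R) := by
  rw [omegaOneCenter_card, omegaOneCenter_card, omega_card_congr p (h.conjEquiv x hR)]

variable {V Z : Subgroup G}

theorem FixGen.le_S (h : Sit p S g) (hV : FixGen p S V Z) : V ≤ S :=
  (hV.le_core h).trans (inf_le_left.trans h.core_le)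

theorem FixGen.push (h : Sit p S g) (hV : FixGen p S V Z) {Q : Subgroup ↥S}
    (hQ : IsMinimalCentrallyLarge Q) :
    IsMinimalCentrallyLarge (Q ⊓ coreS p S ⊔ V.subgroupOf S) ∧
      centralizer ((Q ⊓ coreS p S ⊔ V.subgroupOf S : Subgroup ↥S) : Set ↥S) =
        centralizer (Q : Set ↥S) ⊓ coreS p S ⊔ V.subgroupOf S ∧
      V.subgroupOf S ⊓ Q = V.subgroupOf S ⊓ centralizer (Q : Set ↥S) ∧
      Nat.card ↥(centralizer (Q : Set ↥S)) * Nat.card ↥(V.subgroupOf S ⊓ centralizer (Q : Set ↥S)) =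
        Nat.card ↥(centralizer (Q : Set ↥S) ⊓ coreS p S) * Nat.card ↥(V.subgroupOf S) := by
  refine PushUp.push (fun v hv => (hV.le_core h hv).1) ?_ (fun A => ?_) hQ
  · intro o ho
    rw [mem_centralizer_iff]
    intro v hv
    exact Subtype.ext (mem_centralizer_iff.1 (hV.core_cent h ho) v.1 hv)
  · have hb := hV.bound h (A.map S.subtype) (map_subtype_le A)
    have e1 : Nat.card ↥(A.map S.subtype) = Nat.card ↥A := card_map_of_injective S.subtype_injective
    have e2 : (V.subgroupOf S ⊓ centralizer (A : Set ↥S)).map S.subtype =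
        V ⊓ centralizer ((A.map S.subtype : Subgroup G) : Set G) := by
      ext v
      constructor
      · rintro ⟨w, ⟨hw, hwc⟩, rfl⟩
        refine ⟨hw, mem_centralizer_iff.2 ?_⟩
        rintro _ ⟨a, ha, rfl⟩
        exact congrArg Subtype.val (mem_centralizer_iff.1 hwc a ha)
      · rintro ⟨hv, hvc⟩
        refine ⟨⟨v, hV.le_S h hv⟩, ⟨hv, mem_centralizer_iff.2 fun a ha => Subtype.ext ?_⟩, rfl⟩
        exact mem_centralizer_iff.1 hvc a.1 ⟨a, ha, rfl⟩
    have e3 : (A ⊓ coreS p S).map S.subtype = A.map S.subtype ⊓ Cfsg.pCore p G := by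
      rw [Subgroup.map_inf _ _ _ S.subtype_injective, h.map_coreS]
    rw [← e2, ← e3, card_map_of_injective S.subtype_injective,
      card_map_of_injective S.subtype_injective, card_map_of_injective S.subtype_injective,
      ← Nat.card_congr (Subgroup.subgroupOfEquivOfLe (hV.le_S h)).toEquiv] at hb
    exact hb

theorem FixGen.push_le (h : Sit p S g) (hV : FixGen p S V Z) (Q : Subgroup ↥S) :
    Q ⊓ coreS p S ⊔ V.subgroupOf S ≤ coreS p S :=
  sup_le inf_le_right (fun _ hv => (hV.le_core h hv).1)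

theorem normal_of_central {H : Subgroup G} (h : H ≤ center G) : H.Normal :=
  ⟨fun x hx y => by rw [mem_center_iff.1 (h hx) y, mul_inv_cancel_right]; exact hx⟩

/-- The derived group of a minimal centrally large subgroup, and `S_MCL`. -/
theorem main_derived (hE : Cfsg.IsPushingUpSituation p S) (Q : Subgroup ↥S)
    (hQ : IsMinimalCentrallyLarge Q) :
    ((S ⊓ centralizer (S : Set G)) ⊓ (⁅Q, Q⁆).map S.subtype).Normal ∨
      ((minimalCentrallyLargeJoin ↥S).map S.subtype).Normal := by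
  obtain ⟨g, h⟩ := exists_sit S hE
  set Z := (S ⊓ centralizer (S : Set G)) ⊓ (⁅Q, Q⁆).map S.subtype with hZdef
  by_cases hc : Z ≤ center G
  · exact Or.inl (normal_of_central hc)
  right
  have hV := fixGen_of (p := p) Z (inf_le_left : Z ≤ S ⊓ centralizer (S : Set G)) hc
  set V := normalClosure (Z : Set G)
  obtain ⟨hRm, -⟩ := hV.push h hQ
  have hRO := hV.push_le h Q
  set R := Q ⊓ coreS p S ⊔ V.subgroupOf S
  have hnorm : ((⁅Q, Q⁆).map S.subtype).Normal := by
    refine ⟨fun y hy x => ?_⟩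
    rw [commutator_mcl_eq hQ hRm, Subgroup.map_commutator] at hy
    rw [commutator_mcl_eq hQ (h.conjS_mcl x hRO hRm), Subgroup.map_commutator, h.map_conjS x hRO,
      ← Subgroup.map_commutator]
    exact ⟨y, hy, rfl⟩
  have hVQ : V ≤ (⁅Q, Q⁆).map S.subtype := Subgroup.normalClosure_le_normal fun z hz => hz.2
  have hall : ∀ R : Subgroup ↥S, IsMinimalCentrallyLarge R → R ≤ coreS p S := by
    intro R hR r hr
    have hVR : V.subgroupOf S ≤ R := by
      intro v hv
      obtain ⟨w, hw, e⟩ := hVQ hv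
      rw [commutator_mcl_eq hQ hR] at hw
      exact (Subtype.ext e : w = v) ▸ commutator_le_self R hw
    have e := (hV.push h hR).2.2.1
    rw [inf_of_le_left hVR] at e
    refine hV.cent_le h ⟨mem_centralizer_iff.2 fun v hv => ?_, r.2⟩
    have hvc : (⟨v, hV.le_S h hv⟩ : ↥S) ∈ centralizer (R : Set ↥S) := (e.le hv).2
    exact (congrArg Subtype.val (mem_centralizer_iff.1 hvc r hr)).symm
  refine Subgroup.Normal.mk fun y hy x => ?_
  suffices hle : ((minimalCentrallyLargeJoin ↥S).map S.subtype).map (MulAut.conj x).toMonoidHom ≤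
      (minimalCentrallyLargeJoin ↥S).map S.subtype from hle ⟨y, hy, rfl⟩
  rw [minimalCentrallyLargeJoin, sSup_eq_iSup]
  simp only [Subgroup.map_iSup]
  refine iSup₂_le fun R hR => ?_
  rw [← h.map_conjS x (hall R hR)]
  exact le_iSup₂_of_le (conjS S x R) (h.conjS_mcl x (hall R hR) hR) le_rfl

open scoped Classical in
theorem exists_max_omega :
    ∃ Q : Subgroup ↥S, IsMinimalCentrallyLarge Q ∧
      Nat.card ↥(omegaOneCenter p Q) = maxOmegaCenterOfMinimalCL p ↥S := by
  have h := Nat.sSup_mem (s := {k : ℕ | ∃ Q : Subgroup ↥S, IsMinimalCentrallyLarge Q ∧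
      Nat.card ↥(omegaOneCenter p Q) = k})
    (by
      obtain ⟨Q, hQ⟩ := CLarge.exists_mcl (P := ↥S)
      exact ⟨_, Q, hQ, rfl⟩)
    ((Set.finite_range fun Q : Subgroup ↥S => Nat.card ↥(omegaOneCenter p Q)).subset
      (fun k hk => by obtain ⟨Q, _, e⟩ := hk; exact ⟨Q, e⟩)).bddAbove
  exact h

theorem le_max_omega {R : Subgroup ↥S} (hR : IsMinimalCentrallyLarge R) :
    Nat.card ↥(omegaOneCenter p R) ≤ maxOmegaCenterOfMinimalCL p ↥S :=
  le_csSup ((Set.finite_range fun Q : Subgroup ↥S => Nat.card ↥(omegaOneCenter p Q)).subset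
    (fun _ hk => by obtain ⟨Q, _, e⟩ := hk; exact ⟨Q, e⟩)).bddAbove ⟨R, hR, rfl⟩

theorem mem_omegaOneCenter {X : Subgroup ↥S} {x : ↥S} :
    x ∈ omegaOneCenter p X ↔ x ∈ X ⊓ centralizer (X : Set ↥S) ∧ x ^ p = 1 := by
  constructor
  · intro hx
    refine Subgroup.closure_induction (fun y hy => hy) ⟨one_mem _, one_pow _⟩ ?_ ?_ hx
    · rintro a b - - ⟨ha, hap⟩ ⟨hb, hbp⟩
      have hc : Commute a b := mem_centralizer_iff.1 hb.2 a ha.1
      exact ⟨mul_mem ha hb, by rw [hc.mul_pow, hap, hbp, one_mul]⟩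
    · rintro a - ⟨ha, hap⟩
      exact ⟨inv_mem ha, by rw [inv_pow, hap, inv_one]⟩
  · exact fun h => subset_closure h

/-- If the elements of order `p` of `Z(S)` are central in `G`, so is `Z(S)`. -/
theorem center_of_omega (h : Sit p S g)
    (hc : omegaOne p (S ⊓ centralizer (S : Set G)) ≤ center G) :
    S ⊓ centralizer (S : Set G) ≤ center G := by
  intro z₀ hz₀
  by_contra hz₀c
  -- an element of the centre of S, not central, with central p-th power
  obtain ⟨y, hy, hyc, hyp⟩ : ∃ y, y ∈ S ⊓ centralizer (S : Set G) ∧ y ∉ center G ∧ y ^ p ∈ center G := by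
    obtain ⟨k, hk⟩ := h.pgroup ⟨z₀, hz₀.1⟩
    have hk' : z₀ ^ p ^ k = 1 := congrArg Subtype.val hk
    classical
    have hex : ∃ i, z₀ ^ p ^ i ∈ center G := ⟨k, by rw [hk']; exact one_mem _⟩
    obtain ⟨i, hi⟩ : ∃ i, Nat.find hex = i + 1 := by
      refine ⟨Nat.find hex - 1, ?_⟩
      have : Nat.find hex ≠ 0 := fun h0 => hz₀c (by
        have := Nat.find_spec hex
        rwa [h0, pow_zero, pow_one] at this)
      omega
    refine ⟨z₀ ^ p ^ i, pow_mem hz₀ _, Nat.find_min hex (by omega), ?_⟩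
    rw [← pow_mul, ← pow_succ, ← hi]
    exact Nat.find_spec hex
  haveI hOn := FittingCores.pCore_normal (G := G) p
  set W : Subgroup G := Cfsg.pCore p G ⊓ centralizer (Cfsg.pCore p G : Set G) with hW
  haveI hWn : W.Normal := Subgroup.normal_inf_normal _ _
  let _ : CommGroup ↥W :=
    { (inferInstance : Group ↥W) with
      mul_comm := fun a b => Subtype.ext (mem_centralizer_iff.1 b.2.2 a a.2.1) }
  have hyW : y ∈ W := ⟨h.center_le hy, centralizer_le h.core_le hy.2⟩
  haveI : Fintype (G ⧸ S) := Fintype.ofFinite _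
  let f : G ⧸ S → ↥W := fun q => ⟨q.out * y * q.out⁻¹, hWn.conj_mem _ hyW _⟩
  have hf : ∀ a : G, (f (QuotientGroup.mk a)).1 = a * y * a⁻¹ := by
    intro a
    obtain ⟨s, hs⟩ := QuotientGroup.mk_out_eq_mul S a
    show (QuotientGroup.mk a : G ⧸ S).out * y * (QuotientGroup.mk a : G ⧸ S).out⁻¹ = _
    rw [hs]
    have e := mem_centralizer_iff.1 hy.2 (s : G) s.2
    calc a * s * y * (a * s)⁻¹ = a * ((s : G) * y) * (s : G)⁻¹ * a⁻¹ := by group
      _ = a * (y * s) * (s : G)⁻¹ * a⁻¹ := by rw [e]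
      _ = a * y * a⁻¹ := by group
  set n : ↥W := ∏ q, f q with hn
  have hnc : (n : G) ∈ center G := by
    rw [mem_center_iff]
    intro x
    let c : ↥W →* ↥W :=
      { toFun := fun w => ⟨x * w.1 * x⁻¹, hWn.conj_mem _ w.2 x⟩
        map_one' := Subtype.ext (by simp)
        map_mul' := fun a b => Subtype.ext (by simp [mul_assoc]) }
    have hfix : c n = n := by
      rw [hn, map_prod]
      refine Fintype.prod_equiv (MulAction.toPerm x) _ _ fun q => ?_
      obtain ⟨a, rfl⟩ := QuotientGroup.mk_surjective q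
      refine Subtype.ext ?_
      show x * (f (QuotientGroup.mk a)).1 * x⁻¹ = (f (x • QuotientGroup.mk a)).1
      rw [show x • (QuotientGroup.mk a : G ⧸ S) = QuotientGroup.mk (x * a) from rfl, hf, hf]
      group
    have := congrArg Subtype.val hfix
    exact mul_inv_eq_iff_eq_mul.1 this
  have hnp : ((n : G)) ^ p = (y ^ p) ^ S.index := by
    have e : ∀ q, f q ^ p = ⟨y ^ p, pow_mem hyW p⟩ := fun q => Subtype.ext (by
      show (q.out * y * q.out⁻¹) ^ p = y ^ p
      rw [conj_pow, mem_center_iff.1 hyp q.out, mul_inv_cancel_right])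
    rw [← Subgroup.coe_pow, hn, ← Finset.prod_pow, Finset.prod_congr rfl (fun q _ => e q),
      Finset.prod_const, Finset.card_univ, Subgroup.coe_pow, ← Nat.card_eq_fintype_card]
    rfl
  obtain ⟨k, hk⟩ := h.pgroup ⟨y, hy.1⟩
  have hk' : y ^ p ^ k = 1 := congrArg Subtype.val hk
  obtain ⟨m, hm⟩ : ∃ m, S.index * m ≡ 1 [MOD p ^ k] := by
    by_cases h1 : 1 < p ^ k
    · obtain ⟨m, -, hm⟩ := Nat.exists_mul_mod_eq_one_of_coprime (Nat.Coprime.pow_right k h.index_coprime) h1
      exact ⟨m, hm.trans (Nat.mod_eq_of_lt h1).symm⟩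
    · have : p ^ k = 1 := le_antisymm (not_lt.1 h1) (Nat.pow_pos hp.out.pos)
      exact ⟨0, by rw [this]; exact Nat.modEq_one⟩
  set y' := y * ((n : G) ^ m)⁻¹ with hy'
  have hnm : (n : G) ^ m ∈ center G := pow_mem hnc m
  have hy'p : y' ^ p = 1 := by
    rw [hy', (Commute.inv_right (mem_center_iff.1 hnm y : Commute y _)).mul_pow, inv_pow, ← pow_mul,
      mul_comm m, pow_mul, hnp, ← pow_mul, ← pow_mul]
    have hord : orderOf y ∣ p ^ k := orderOf_dvd_of_pow_eq_one hk'
    rw [mul_inv_eq_one, pow_eq_pow_iff_modEq]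
    have h2 : p * (S.index * m) ≡ p * 1 [MOD p ^ k] := Nat.ModEq.mul_left p hm
    rw [mul_one, ← mul_assoc] at h2
    rw [← mul_assoc]
    exact (h2.of_dvd hord).symm
  have hnS : (n : G) ^ m ∈ S ⊓ centralizer (S : Set G) :=
    ⟨pow_mem (h.core_le n.2.1) m, mem_centralizer_iff.2 fun s _ => mem_center_iff.1 hnm s⟩
  have hy'Z : y' ∈ center G :=
    hc (subset_closure ⟨mul_mem hy (inv_mem hnS), hy'p⟩)
  exact hyc (by
    have := mul_mem hy'Z hnm
    rwa [hy', inv_mul_cancel_right] at this)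

/-- `Z(S)` and `S_Φ`. -/
theorem main_frattini (hE : Cfsg.IsPushingUpSituation p S) :
    (S ⊓ centralizer (S : Set G)).Normal ∨ ((frattiniOfMinimalCLJoin p ↥S).map S.subtype).Normal := by
  obtain ⟨g, h⟩ := exists_sit S hE
  set Z := omegaOne p (S ⊓ centralizer (S : Set G)) with hZdef
  by_cases hc : Z ≤ center G
  · exact Or.inl (normal_of_central (center_of_omega h hc))
  right
  have hZle : Z ≤ S ⊓ centralizer (S : Set G) := by
    rw [hZdef, omegaOne, closure_le]; exact fun x hx => hx.1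
  have hV := fixGen_of (p := p) Z hZle hc
  set V := normalClosure (Z : Set G) with hVdef
  -- V is elementary abelian
  have hVp : ∀ v ∈ V, v ^ p = 1 := by
    intro v hv
    have hWgen : ∀ z ∈ (Z : Set G), ∀ x : G, (x * z * x⁻¹) ^ p = 1 := by
      intro z hz x
      have : z ^ p = 1 := by
        refine Subgroup.closure_induction (fun y hy => hy.2) (one_pow _) ?_ ?_ hz
        · intro a b ha hb e1 e2
          have hc : Commute a b := mem_centralizer_iff.1 (hZle hb).2 a (hZle ha).1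
          rw [hc.mul_pow, e1, e2, one_mul]
        · intro a _ e1; rw [inv_pow, e1, inv_one]
      rw [conj_pow, this]; simp
    refine Subgroup.closure_induction (fun y hy => ?_) (one_pow _) ?_ ?_ hv
    · obtain ⟨z, hz, hzc⟩ := Group.mem_conjugatesOfSet_iff.1 hy
      obtain ⟨x, rfl⟩ := isConj_iff.1 hzc
      exact hWgen z hz x
    · intro a b ha hb e1 e2
      have hc : Commute a b := hV.comm h ha hb
      rw [hc.mul_pow, e1, e2, one_mul]
    · intro a _ e1; rw [inv_pow, e1, inv_one]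
  -- every relevant Φ(Q) is Φ of a relevant subgroup inside the core
  have key : ∀ Q : Subgroup ↥S, IsMinimalCentrallyLarge Q →
      Nat.card ↥(omegaOneCenter p Q) = maxOmegaCenterOfMinimalCL p ↥S →
      ∃ R : Subgroup ↥S, R ≤ coreS p S ∧ IsMinimalCentrallyLarge R ∧
        Nat.card ↥(omegaOneCenter p R) = maxOmegaCenterOfMinimalCL p ↥S ∧
        powComm p Q = powComm p R := by
    intro Q hQ hQmax
    obtain ⟨hRm, hCR, hVQ, hcards⟩ := hV.push h hQ
    have hRO := hV.push_le h Q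
    set O' := coreS p S
    set V' := V.subgroupOf S
    set R := Q ⊓ O' ⊔ V'
    set C := centralizer (Q : Set ↥S) with hC
    set E := omegaOneCenter p Q with hE'
    have hCQ := CLarge.cl_le hQ.1
    have hCab : C ≤ centralizer (C : Set ↥S) := le_centralizer_iff.1 (hCQ.trans
      (le_centralizer_iff.1 le_rfl))
    have hEC : E ≤ C := fun x hx => (mem_omegaOneCenter.1 hx).1.2
    have hEp : ∀ e ∈ E, e ^ p = 1 := fun e he => (mem_omegaOneCenter.1 he).2
    have hV'p : ∀ v ∈ V', v ^ p = 1 := fun v hv => Subtype.ext (hVp v.1 hv)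
    have hOc : O' ≤ centralizer (V' : Set ↥S) := fun o ho => mem_centralizer_iff.2 fun v hv =>
      Subtype.ext (mem_centralizer_iff.1 (hV.core_cent h ho) v.1 hv)
    have hVO : V' ≤ O' := fun v hv => (hV.le_core h hv).1
    have hRC : (E ⊓ O') ⊔ V' ≤ omegaOneCenter p R := by
      refine sup_le (fun x hx => ?_) (fun x hx => ?_)
      · refine mem_omegaOneCenter.2 ⟨⟨mem_sup_left ⟨(mem_omegaOneCenter.1 hx.1).1.1, hx.2⟩, ?_⟩, hEp x hx.1⟩
        rw [hCR]; exact mem_sup_left ⟨hEC hx.1, hx.2⟩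
      · refine mem_omegaOneCenter.2 ⟨⟨mem_sup_right hx, ?_⟩, hV'p x hx⟩
        rw [hCR]; exact mem_sup_right hx
    have i1 : (E ⊓ O') ⊓ V' = V' ⊓ C := by
      refine le_antisymm (fun x hx => ⟨hx.2, hEC hx.1.1⟩) (fun x hx => ?_)
      exact ⟨⟨mem_omegaOneCenter.2 ⟨⟨hCQ hx.2, hx.2⟩, hV'p x hx.1⟩, hVO hx.1⟩, hx.1⟩
    have s1 := Product.card_mul_card_le (E ⊓ O') V'
    rw [i1] at s1
    have s2 := Product.card_mul_card_le E (C ⊓ O')
    rw [show E ⊓ (C ⊓ O') = E ⊓ O' by rw [← inf_assoc, inf_of_le_left hEC]] at s2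
    have hle1 : E ⊔ C ⊓ O' ≤ C := sup_le hEC inf_le_left
    have c1 := card_le_of_le hle1
    have c2 := card_le_of_le hRC
    have hmax := le_max_omega (p := p) hRm
    rw [← hQmax] at hmax
    set e := Nat.card ↥E
    set e0 := Nat.card ↥(E ⊓ O' : Subgroup ↥S)
    set z := Nat.card ↥C
    set z0 := Nat.card ↥(C ⊓ O' : Subgroup ↥S)
    set v := Nat.card ↥V'
    set j := Nat.card ↥(V' ⊓ C : Subgroup ↥S)
    set er := Nat.card ↥(omegaOneCenter p R)
    set k1 := Nat.card ↥((E ⊓ O') ⊔ V' : Subgroup ↥S)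
    set k2 := Nat.card ↥(E ⊔ C ⊓ O' : Subgroup ↥S)
    have pe0 : 0 < e0 := Nat.card_pos
    have pj : 0 < j := Nat.card_pos
    have pz : 0 < z0 := Nat.card_pos
    have hee : e ≤ er := by
      apply Nat.le_of_mul_le_mul_right _ (Nat.mul_pos pj pz)
      calc e * (j * z0) = (e * z0) * j := by ring
        _ ≤ (z * e0) * j := Nat.mul_le_mul_right _ (s2.trans (Nat.mul_le_mul_right _ c1))
        _ = e0 * (z * j) := by ring
        _ = e0 * (z0 * v) := by rw [hcards]
        _ = (e0 * v) * z0 := by ring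
        _ ≤ (er * j) * z0 := Nat.mul_le_mul_right _ (s1.trans (Nat.mul_le_mul_right _ c2))
        _ = er * (j * z0) := by ring
    have heq : er = e := le_antisymm hmax hee
    have hk2 : z ≤ k2 := by
      apply Nat.le_of_mul_le_mul_right _ (Nat.mul_pos pj pe0)
      calc z * (j * e0) = (z * j) * e0 := by ring
        _ = z0 * (e0 * v) := by rw [hcards]; ring
        _ ≤ z0 * (er * j) := Nat.mul_le_mul_left _ (s1.trans (Nat.mul_le_mul_right _ c2))
        _ = (e * z0) * j := by rw [heq]; ring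
        _ ≤ (k2 * e0) * j := Nat.mul_le_mul_right _ s2
        _ = k2 * (j * e0) := by ring
    have hCeq : E ⊔ C ⊓ O' = C := eq_of_le_of_card_ge hle1 hk2
    have hQeq : Q ⊓ O' ⊔ E = Q := by
      refine le_antisymm (sup_le inf_le_left (hEC.trans hCQ)) ?_
      conv_lhs => rw [← CLarge.mcl_sup_center hQ hRm]
      refine sup_le ((le_inf inf_le_left (inf_le_right.trans hRO)).trans le_sup_left) ?_
      rw [← hC, ← hCeq]
      exact sup_le le_sup_right ((inf_le_inf_right O' hCQ).trans le_sup_left)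
    refine ⟨R, hRO, hRm, heq.trans hQmax, ?_⟩
    rw [← hQeq, powComm_sup _ _ ?_ hEp]
    · refine (powComm_sup _ _ ?_ hV'p).symm
      show V' ≤ centralizer (R : Set ↥S)
      rw [hCR]; exact le_sup_right
    · rw [hQeq]; exact hEC
  have hfr : ∀ X : Subgroup ↥S, ((frattini ↥X).map X.subtype).map S.subtype =
      powComm p (X.map S.subtype) := fun X => by rw [frattini_eq_powComm h.pgroup, powComm_map]
  refine Subgroup.Normal.mk fun y hy x => ?_
  suffices hle : ((frattiniOfMinimalCLJoin p ↥S).map S.subtype).map (MulAut.conj x).toMonoidHom ≤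
      (frattiniOfMinimalCLJoin p ↥S).map S.subtype from hle ⟨y, hy, rfl⟩
  rw [frattiniOfMinimalCLJoin]
  simp only [Subgroup.map_iSup]
  refine iSup_le ?_
  rintro ⟨Q, hQ, hQmax⟩
  obtain ⟨R, hRO, hRm, hRmax, heq⟩ := key Q hQ hQmax
  refine le_iSup_of_le ⟨conjS S x R, h.conjS_mcl x hRO hRm, by rw [h.conjS_omega x hRO, hRmax]⟩ ?_
  rw [hfr, hfr, h.map_conjS x hRO]
  show Subgroup.map _ (powComm p (Q.map S.subtype)) ≤ _
  rw [← powComm_map S.subtype p Q, heq, powComm_map S.subtype p R, powComm_map]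

theorem frattini_bot_facts (hE : Cfsg.IsPushingUpSituation p S)
    (hb : frattiniOfMinimalCLJoin p ↥S = ⊥) :
    (∀ Q : Subgroup ↥S, IsMinimalCentrallyLarge Q ↔ Q ∈ maxAbelianSubgroups ↥S) ∧
      ∃ A ∈ maxAbelianSubgroups ↥S, IsElementaryAbelian p A := by
  obtain ⟨g, h⟩ := exists_sit S hE
  obtain ⟨Q, hQ, hQmax⟩ := exists_max_omega (p := p) (S := S)
  have hΦ : (frattini ↥Q).map Q.subtype = ⊥ := by
    rw [eq_bot_iff, ← hb, frattiniOfMinimalCLJoin]
    exact le_iSup (fun X : {Q : Subgroup ↥S // IsMinimalCentrallyLarge Q ∧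
      Nat.card ↥(omegaOneCenter p Q) = maxOmegaCenterOfMinimalCL p ↥S} =>
      (frattini ↥(X : Subgroup ↥S)).map (X : Subgroup ↥S).subtype) ⟨Q, hQ, hQmax⟩
  rw [frattini_eq_powComm h.pgroup, powComm, Subgroup.closure_eq_bot_iff] at hΦ
  have hab : IsMulCommutative ↥Q := ⟨⟨fun a b => Subtype.ext (by
    have := hΦ (Or.inl ⟨a, a.2, b, b.2, rfl⟩)
    exact commutatorElement_eq_one_iff_mul_comm.1 this)⟩⟩
  refine ⟨CLarge.mcl_iff_maxAbelian hQ hab, Q, (CLarge.mcl_iff_maxAbelian hQ hab Q).1 hQ, hab, ?_⟩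
  intro a ha
  exact hΦ (Or.inr ⟨a, ha, rfl⟩)

theorem commutator_characteristic {P : Type*} [Group P] [Finite P] {Q : Subgroup P}
    (hQ : IsMinimalCentrallyLarge Q) : (⁅Q, Q⁆).Characteristic := by
  rw [Subgroup.characteristic_iff_map_eq]
  intro φ
  rw [Subgroup.map_commutator]
  exact commutator_mcl_eq (mcl_map φ hQ) hQ

end Cfsg.Agent.PushUp
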