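/-
The pushing-up situation: a subgroup between `O_p(G)` and `S` normalised by the normaliser of `S`
is one of the two.
-/
import Cfsg.Agent.Lib.PushUp.Offender

set_option autoImplicit false

namespace Cfsg.Agent.PushUp

open scoped commutatorElement
open Matrix

section PSL2

variable (F : Type*) [Field F]

/-- diagonal element -/
def dg (t : F) (ht : t ≠ 0) : Matrix.SpecialLinearGroup (Fin 2) F :=
  ⟨!![t, 0; 0, t⁻¹], by simp [det_fin_two_of, ht]⟩

theorem dg_up (t : F) (ht : t ≠ 0) (b : F) : dg F t ht * up b * (dg F t ht)⁻¹ = up (t * t * b) := by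
  rw [mul_inv_eq_iff_eq_mul]
  apply Subtype.ext
  rw [Matrix.SpecialLinearGroup.coe_mul, Matrix.SpecialLinearGroup.coe_mul]
  show !![t, 0; 0, t⁻¹] * !![1, b; 0, 1] = !![1, t * t * b; 0, 1] * !![t, 0; 0, t⁻¹]
  ext i j
  fin_cases i <;> fin_cases j <;>
    simp [Matrix.mul_apply, Fin.sum_univ_two, ht] <;> field_simp

/-- The torus normalises the unitriangular group. -/
theorem dg_mem_normalizer (t : F) (ht : t ≠ 0) :
    proj F (dg F t ht) ∈ Subgroup.normalizer (Ubar F : Set (Matrix.ProjectiveSpecialLinearGroup (Fin 2) F)) := by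
  have key : ∀ b : F, proj F (dg F t ht) * proj F (up b) * (proj F (dg F t ht))⁻¹ =
      proj F (up (t * t * b)) := fun b => by
    rw [← map_inv, ← map_mul, ← map_mul, dg_up]
  rw [Subgroup.mem_normalizer_iff]
  intro x
  constructor
  · rintro ⟨b, rfl⟩
    exact ⟨t * t * b, (key b).symm⟩
  · rintro ⟨b, hb⟩
    refine ⟨(t * t)⁻¹ * b, ?_⟩
    have e := key ((t * t)⁻¹ * b)
    rw [mul_inv_cancel_left₀ (mul_ne_zero ht ht)] at e
    exact mul_left_cancel (mul_right_cancel (e.trans hb))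

/-- An additive subgroup closed under squares is everything. -/
theorem eq_top_of_squares [Finite F] (R : AddSubgroup F) (hsq : ∀ t : F, t * t ∈ R) : R = ⊤ := by
  refine (AddSubgroup.eq_top_iff' R).2 fun r => ?_
  by_cases h2 : (2 : F) = 0
  · have hc : ringChar F = 2 := CharP.ringChar_of_prime_eq_zero Nat.prime_two (by exact_mod_cast h2)
    obtain ⟨s, rfl⟩ := FiniteField.isSquare_of_char_two hc r
    exact hsq s
  · have h := R.sub_mem (R.sub_mem (hsq (r / 2 + 1)) (hsq (r / 2))) (hsq 1)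
    have e : (r / 2 + 1) * (r / 2 + 1) - r / 2 * (r / 2) - 1 * 1 = r := by field_simp; ring
    rwa [e] at h

end PSL2

variable {G : Type*} [Group G] [Finite G] {p : ℕ} [hp : Fact p.Prime]

/-- The quotient map, normalised so that `S` goes to the unitriangular group. -/
theorem exists_phi (S : Subgroup G) (hE : Cfsg.IsPushingUpSituation p S) :
    ∃ (F : Type) (_ : Field F) (_ : Fintype F) (φ : G →* Matrix.ProjectiveSpecialLinearGroup (Fin 2) F),
      Function.Surjective φ ∧ S.map φ = Ubar F ∧ S ⊓ φ.ker ≤ Cfsg.pCore p G := by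
  obtain ⟨-, ⟨P, hP⟩, hC, ⟨M, ⟨hMco, hSM⟩, hMu⟩, K, hKn, F, hFF, hFT, n, hq, ⟨e⟩⟩ := hE
  subst hP
  refine ⟨F, hFF, hFT, ?_⟩
  set φ₀ : G →* Matrix.ProjectiveSpecialLinearGroup (Fin 2) F :=
    e.toMonoidHom.comp (QuotientGroup.mk' K) with hφ₀
  have hs₀ : Function.Surjective φ₀ := e.surjective.comp (QuotientGroup.mk'_surjective K)
  haveI : Finite (Matrix.ProjectiveSpecialLinearGroup (Fin 2) F) := Finite.of_surjective _ hs₀
  let UP : Sylow p (Matrix.ProjectiveSpecialLinearGroup (Fin 2) F) :=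
    (isPGroup_Ubar F hq).toSylow (index_Ubar_not_dvd F hq)
  obtain ⟨c, hc⟩ := MulAction.exists_smul_eq (Matrix.ProjectiveSpecialLinearGroup (Fin 2) F)
    (P.mapSurjective hs₀) UP
  set φ : G →* Matrix.ProjectiveSpecialLinearGroup (Fin 2) F := (MulAut.conj c).toMonoidHom.comp φ₀
    with hφ
  have hs : Function.Surjective φ := (MulAut.conj c).surjective.comp hs₀
  have hSU : (P : Subgroup G).map φ = Ubar F := by
    have h := congrArg (fun T : Sylow p (Matrix.ProjectiveSpecialLinearGroup (Fin 2) F) =>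
      T.toSubgroup) hc
    simp only [Sylow.coe_subgroup_smul] at h
    rw [hφ, ← Subgroup.map_map]
    exact h
  have hker : φ.ker = K := by
    ext x
    simp [hφ, hφ₀]
  have hUtop : Ubar F ≠ ⊤ := fun h =>
    weyl_conj_ne F (one_ne_zero (α := F)) (by
      rw [h, Subgroup.map_top_of_surjective _ (MulAut.conj _).surjective]
      exact Subgroup.mem_top _)
  have below : ∀ H : Subgroup G, H ≠ ⊤ → (P : Subgroup G) ≤ H → H ≤ M := by
    intro H hH hle
    obtain ⟨M', hM', hHM'⟩ := (eq_top_or_exists_le_coatom H).resolve_left hH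
    rwa [hMu M' ⟨hM', hle.trans hHM'⟩] at hHM'
  have hKM : K ≤ M := by
    refine le_trans le_sup_right (below ((P : Subgroup G) ⊔ K) (fun h => hUtop ?_) le_sup_left)
    have h2 := congrArg (Subgroup.map φ) h
    rw [Subgroup.map_sup, hSU, (Subgroup.map_eq_bot_iff _).2 hker.ge, sup_bot_eq,
      Subgroup.map_top_of_surjective _ hs] at h2
    exact h2
  refine ⟨φ, hs, hSU, ?_⟩
  rw [hker]
  have hnorm : ((P : Subgroup G) ⊓ K).Normal := by
    by_contra hn
    have hne : Subgroup.normalizer (((P : Subgroup G) ⊓ K : Subgroup G) : Set G) ≠ ⊤ := fun h =>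
      hn (Subgroup.normalizer_eq_top_iff.1 h)
    have hNM := below _ hne (FGBasics.le_normalizer_inf P K)
    apply hMco.1
    rw [eq_top_iff, ← FGBasics.normalizer_inf_sup_eq_top P K]
    exact sup_le hNM hKM
  exact FittingCores.le_pCore hnorm (P.isPGroup'.to_le inf_le_left)

variable {S : Subgroup G} {g : G}

/-- `S / O_p(G)` is abelian and, under `N(S)`, has no invariant subgroups. -/
theorem eq_of_normalizer_invariant (hE : Cfsg.IsPushingUpSituation p S) :
    ⁅S, S⁆ ≤ Cfsg.pCore p G ∧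
    ∀ Y : Subgroup G, Cfsg.pCore p G ≤ Y → Y ≤ S → ¬ Y ≤ Cfsg.pCore p G →
      Subgroup.normalizer (S : Set G) ≤ Subgroup.normalizer (Y : Set G) → Y = S := by
  obtain ⟨F, hFF, hFT, φ, hs, hSU, hSK⟩ := exists_phi S hE
  obtain ⟨P, hP⟩ := hE.2.1
  refine ⟨Subgroup.commutator_le.2 fun a ha b hb => ?_, fun Y hOY hYS hY hn => ?_⟩
  · refine hSK ⟨S.mul_mem (S.mul_mem (S.mul_mem ha hb) (S.inv_mem ha)) (S.inv_mem hb), ?_⟩
    obtain ⟨x, hx⟩ : φ a ∈ Ubar F := hSU ▸ ⟨a, ha, rfl⟩
    obtain ⟨y, hy⟩ : φ b ∈ Ubar F := hSU ▸ ⟨b, hb, rfl⟩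
    show φ ⁅a, b⁆ = 1
    rw [map_commutatorElement, commutatorElement_eq_one_iff_mul_comm, ← hx, ← hy]
    simp only [← map_mul, up_mul, add_comm]
  -- the normaliser of `S` covers that of its image
  set T := (Ubar F).comap φ with hT
  set NT := (Subgroup.normalizer (Ubar F : Set (Matrix.ProjectiveSpecialLinearGroup (Fin 2) F))).comap φ
    with hNT
  have hTNT : T ≤ NT := Subgroup.comap_mono Subgroup.le_normalizer
  have hST : S ≤ T := fun s hs' => hSU.le ⟨s, hs', rfl⟩
  have hTn : (T.subgroupOf NT).Normal :=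
    (Subgroup.normal_subgroupOf_iff_le_normalizer hTNT).2 fun x hx => by
      rw [Subgroup.mem_normalizer_iff]
      intro y
      show φ y ∈ Ubar F ↔ φ (x * y * x⁻¹) ∈ Ubar F
      rw [map_mul, map_mul, map_inv]
      exact Subgroup.mem_normalizer_iff.1 hx (φ y)
  set R : Sylow p ↥NT := P.subtype (hP.symm ▸ hST.trans hTNT)
  have hR : (R : Subgroup ↥NT) = S.subgroupOf NT := by rw [← hP]; rfl
  have hfr := FGBasics.normalizer_inf_sup_eq_top R (T.subgroupOf NT)
  rw [inf_eq_left.2 (hR ▸ fun x hx => hST hx), hR] at hfr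
  have cover : ∀ y ∈ Subgroup.normalizer (Ubar F : Set (Matrix.ProjectiveSpecialLinearGroup (Fin 2) F)),
      ∃ n ∈ Subgroup.normalizer (S : Set G), φ n = y := by
    intro y hy
    obtain ⟨x, rfl⟩ := hs y
    obtain ⟨n, hnN, t, ht, e⟩ := Subgroup.mem_sup_of_normal_right.1
      (hfr.symm ▸ Subgroup.mem_top (⟨x, hy⟩ : ↥NT))
    obtain ⟨s, hs', hst⟩ : φ (t : G) ∈ S.map φ := hSU.symm ▸ ht
    refine ⟨(n : G) * s, mul_mem ?_ (Subgroup.le_normalizer hs'), ?_⟩
    · rw [Subgroup.mem_normalizer_iff]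
      intro z
      have hz := fun (hz : z ∈ NT) => Subgroup.mem_normalizer_iff.1 hnN ⟨z, hz⟩
      constructor
      · intro h
        exact (hz (hTNT (hST h))).1 h
      · intro h
        have hzNT : z ∈ NT := by
          have h' := NT.mul_mem (NT.mul_mem (NT.inv_mem n.2) (hTNT (hST h))) n.2
          simpa [mul_assoc] using h'
        exact (hz hzNT).2 h
    · rw [map_mul, hst, ← map_mul]
      exact congrArg φ (congrArg Subtype.val e)
  -- the additive subgroup of the image of `Y`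
  let Λ : AddSubgroup F :=
    { carrier := {b | proj F (up b) ∈ Y.map φ}
      zero_mem' := by
        show proj F (up 0) ∈ Y.map φ
        rw [up_zero, map_one]; exact one_mem _
      add_mem' := fun {a b} ha hb => by
        show proj F (up (a + b)) ∈ Y.map φ
        rw [← up_mul, map_mul]; exact mul_mem ha hb
      neg_mem' := fun {a} ha => by
        show proj F (up (-a)) ∈ Y.map φ
        rw [eq_inv_of_mul_eq_one_left (show proj F (up (-a)) * proj F (up a) = 1 by
          rw [← map_mul, up_mul, neg_add_cancel, up_zero, map_one])]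
        exact inv_mem ha }
  obtain ⟨y, hy, hyO⟩ := Set.not_subset.1 hY
  obtain ⟨b, hb⟩ : φ y ∈ Ubar F := hSU ▸ ⟨y, hYS hy, rfl⟩
  have hbΛ : b ∈ Λ := ⟨y, hy, hb.symm⟩
  have hb0 : b ≠ 0 := fun h0 => hyO (hSK ⟨hYS hy, by
    show φ y = 1
    rw [← hb, h0]; simp [up_zero]⟩)
  have hsq : ∀ t : F, t * t * b ∈ Λ := by
    intro t
    by_cases ht : t = 0
    · rw [ht, mul_zero, zero_mul]; exact Λ.zero_mem
    obtain ⟨n, hnN, hne⟩ := cover _ (dg_mem_normalizer F t ht)
    refine ⟨n * y * n⁻¹, (Subgroup.mem_normalizer_iff.1 (hn hnN) y).1 hy, ?_⟩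
    rw [map_mul, map_mul, map_inv, hne, ← hb]
    show proj F (dg F t ht) * proj F (up b) * _ = _
    rw [← map_inv, ← map_mul, ← map_mul, dg_up]
  have htop : Λ.comap (AddMonoidHom.mulRight b) = ⊤ := eq_top_of_squares F _ hsq
  refine le_antisymm hYS fun s hs' => ?_
  obtain ⟨c, hc⟩ : φ s ∈ Ubar F := hSU ▸ ⟨s, hs', rfl⟩
  have hcΛ : c / b * b ∈ Λ := (htop.symm ▸ AddSubgroup.mem_top (c / b) :
    c / b ∈ Λ.comap (AddMonoidHom.mulRight b))
  rw [div_mul_cancel₀ c hb0] at hcΛ
  obtain ⟨z, hz, hze⟩ := hcΛ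
  have h1 : z⁻¹ * s ∈ Y := hOY (hSK ⟨S.mul_mem (S.inv_mem (hYS hz)) hs', by
    show φ (z⁻¹ * s) = 1
    rw [map_mul, map_inv, hze, ← hc, inv_mul_cancel]⟩)
  simpa using Y.mul_mem hz h1

end Cfsg.Agent.PushUp
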