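/-
The pushing-up situation with `J(S)` outside `O_p(G)`: `V = ⟨Z^G⟩` is a natural module, and the
lemmas of Baumann type for `Z(J(S))`.
-/
import Cfsg.Agent.Lib.PushUp.Main
import Cfsg.Agent.Lib.PushUp.Torus
import Cfsg.Agent.Lib.PLocal.ZJ

set_option autoImplicit false

namespace Cfsg.Agent.PushUp

open Subgroup
open scoped commutatorElement

variable {G : Type*} [Group G] [Finite G] {p : ℕ} [hp : Fact p.Prime] {S V Z : Subgroup G} {g : G}

local notation "O" => Cfsg.pCore p G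

/-- The product formula. -/
theorem card_sup_eq {H K : Subgroup G} (h : H ≤ normalizer (K : Set G)) :
    Nat.card ↥(H ⊔ K) * Nat.card ↥(H ⊓ K) = Nat.card ↥H * Nat.card ↥K :=
  CLarge.card_of_coe_sup_eq (coe_mul_of_left_le_normalizer_right _ _ h)

theorem mem_normalizer_of_map_le {H : Subgroup G} {x : G}
    (h : H.map (MulAut.conj x).toMonoidHom ≤ H) : x ∈ normalizer (H : Set G) := by
  rw [mem_normalizer_iff_map_conj_eq]
  exact eq_of_le_of_card_ge h (card_map_of_injective (MulAut.conj x).injective).ge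

theorem normalizer_inf_le_normalizer_sup (H K : Subgroup G) :
    normalizer (H : Set G) ⊓ normalizer (K : Set G) ≤ normalizer ((H ⊔ K : Subgroup G) : Set G) := by
  intro x hx
  rw [mem_normalizer_iff_map_conj_eq]
  show (H ⊔ K).map (MulAut.conj x).toMonoidHom = H ⊔ K
  rw [Subgroup.map_sup]
  exact congrArg₂ (· ⊔ ·) (mem_normalizer_iff_map_conj_eq.1 hx.1) (mem_normalizer_iff_map_conj_eq.1 hx.2)

/-! ### Normal subgroups -/

theorem Sit.normal_sup_eq_top (h : Sit p S g) {N : Subgroup G} [N.Normal] (hN : ¬ N ⊓ S ≤ O) :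
    N ⊔ S.map (MulAut.conj g).toMonoidHom = ⊤ := by
  by_contra hne
  exact hN ((inf_le_inf_right S le_sup_left).trans (h.meet _ hne le_sup_right))

theorem Sit.normal_sup_self (h : Sit p S g) {N : Subgroup G} [hn : N.Normal] (hN : ¬ N ⊓ S ≤ O) :
    N ⊔ S = ⊤ := by
  refine map_injective (f := (MulAut.conj g).toMonoidHom) (MulAut.conj g).injective ?_
  rw [Subgroup.map_sup, map_top_of_surjective _ (MulAut.conj g).surjective,
    show N.map (MulAut.conj g).toMonoidHom = N from mem_normalizer_iff_map_conj_eq.1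
      ((normalizer_eq_top (H := N)).symm ▸ mem_top g), h.normal_sup_eq_top hN]

/-- An element of `C(S)` whose conjugate centralises a normal subgroup outside the core is central. -/
theorem Sit.mem_center (h : Sit p S g) {N : Subgroup G} [N.Normal] (hN : ¬ N ⊓ S ≤ O) {c : G}
    (hc : c ∈ centralizer (S : Set G)) (hcN : g * c * g⁻¹ ∈ centralizer (N : Set G)) :
    c ∈ center G := by
  have hle : N ⊔ S.map (MulAut.conj g).toMonoidHom ≤ centralizer {g * c * g⁻¹} := by
    refine sup_le (fun n hn => ?_) ?_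
    · rw [mem_centralizer_singleton_iff]
      exact mem_centralizer_iff.1 hcN n hn
    · rintro _ ⟨s, hs, rfl⟩
      rw [mem_centralizer_singleton_iff]
      show g * s * g⁻¹ * (g * c * g⁻¹) = g * c * g⁻¹ * (g * s * g⁻¹)
      calc g * s * g⁻¹ * (g * c * g⁻¹) = g * (s * c) * g⁻¹ := by group
        _ = g * (c * s) * g⁻¹ := by rw [mem_centralizer_iff.1 hc s hs]
        _ = _ := by group
  rw [h.normal_sup_eq_top hN] at hle
  have hcen : g * c * g⁻¹ ∈ center G := mem_center_iff.2 fun y =>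
    mem_centralizer_singleton_iff.1 (hle (mem_top y))
  simpa [mul_assoc] using (inferInstance : (center G).Normal).conj_mem _ hcen g⁻¹

/-! ### Maximal abelian subgroups -/

local notation "MaxA" => ZJ.IsMaxIn p False
local notation "Zj" => ZJ.zJ p False S
local notation "J" => ZJ.jSub p False S

theorem isMaxIn_conj (hOS : O ≤ S) {A : Subgroup G} (hA : MaxA S A) (hAO : A ≤ O) (x : G) :
    MaxA S (A.map (MulAut.conj x).toMonoidHom) ∧ A.map (MulAut.conj x).toMonoidHom ≤ O := by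
  have h1 : A.map (MulAut.conj x).toMonoidHom ≤ O := by
    rintro _ ⟨a, ha, rfl⟩
    exact (FittingCores.pCore_normal (G := G) p).conj_mem _ (hAO ha) x
  refine ⟨⟨h1.trans hOS, hA.2.1.map _, fun B hB hBs => ?_⟩, h1⟩
  rw [card_map_of_injective (MulAut.conj x).injective]
  exact hA.2.2 B hB hBs

/-- When `J(S) ≤ O_p(G)`, `Z(J(S))` is normal. -/
theorem zJ_normal_of_le (h : Sit p S g) (hJ : J ≤ O) : (Zj).Normal := by
  refine normalizer_eq_top_iff.1 (eq_top_iff.2 fun x _ =>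
    ZJ.normalizer_jSub_le_normalizer_zJ S (mem_normalizer_of_map_le ?_))
  rw [ZJ.jSub, sSup_eq_iSup]
  simp only [Subgroup.map_iSup]
  refine iSup₂_le fun A hA => ?_
  exact le_iSup₂_of_le (A.map (MulAut.conj x).toMonoidHom)
    (isMaxIn_conj h.core_le hA ((ZJ.le_jSub hA).trans hJ) x).1 le_rfl

theorem center_le_zJ : S ⊓ centralizer (S : Set G) ≤ Zj := by
  intro c hc
  obtain ⟨A, hA⟩ := ZJ.exists_isMaxIn p False S
  refine ⟨ZJ.le_jSub hA (ZJ.mem_of_centralizes hA hc.1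
    (fun a ha => mem_centralizer_iff.1 hc.2 a (hA.1 ha)) False.elim), ?_⟩
  exact centralizer_le (ZJ.jSub_le S) hc.2

/-- The easy case: `C_S(Z(J(S)))` is normal. -/
theorem jTilde_normal_of_le (h : Sit p S g) (hJ : J ≤ O)
    (hnc : ¬ S ⊓ centralizer (S : Set G) ≤ center G) : (S ⊓ centralizer (Zj : Set G)).Normal := by
  have := zJ_normal_of_le h hJ
  have hle : centralizer (Zj : Set G) ⊓ S ≤ O := by
    by_contra hN
    refine hnc fun c hc => h.mem_center hN hc.2 ?_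
    rw [mem_centralizer_iff]
    intro n hn
    exact (mem_centralizer_iff.1 hn _ (this.conj_mem c (center_le_zJ hc) g)).symm
  have heq : S ⊓ centralizer (Zj : Set G) = O ⊓ centralizer (Zj : Set G) :=
    le_antisymm (le_inf (by rwa [inf_comm] at hle) inf_le_right) (inf_le_inf_right _ h.core_le)
  rw [heq]
  have := FittingCores.pCore_normal (G := G) p
  exact normal_inf_normal _ _

theorem FixGen.subset (hV : FixGen p S V Z) : Z ≤ V := hV.gen ▸ subset_normalClosure

theorem FixGen.not_le_center (hV : FixGen p S V Z) : ¬ S ⊓ centralizer (S : Set G) ≤ center G :=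
  fun h => hV.noncentral (by rw [hV.gen]; exact normalClosure_le_normal (hV.fix.trans h))

theorem FixGen.le_cent (h : Sit p S g) (hV : FixGen p S V Z) : V ≤ centralizer (V : Set G) :=
  fun _ hv => mem_centralizer_iff.2 fun _ hu => hV.comm h hu hv

/-- Pushing a maximal abelian subgroup into the core. -/
theorem FixGen.push_max (h : Sit p S g) (hV : FixGen p S V Z) {A : Subgroup G} (hA : MaxA S A) :
    MaxA S (A ⊓ O ⊔ V) ∧ A ⊓ O ⊔ V ≤ O ∧
      Nat.card ↥A * Nat.card ↥(V ⊓ centralizer (A : Set G)) = Nat.card ↥(A ⊓ O) * Nat.card ↥V := by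
  set A₁ := A ⊓ O ⊔ V
  have hle : A₁ ≤ O := sup_le inf_le_right ((hV.le_core h).trans inf_le_left)
  have hAO : A ⊓ O ≤ centralizer ((A ⊓ O : Subgroup G) : Set G) := fun x hx =>
    mem_centralizer_iff.2 fun y hy => hA.2.1.comm hy.1 hx.1
  have habel := CLarge.sup_le_centralizer_sup hAO (hV.le_cent h) (inf_le_right.trans (hV.core_cent h))
  have hsml : ZJ.Sml p False A₁ :=
    ZJ.sml_of_comm (fun x hx y hy => mem_centralizer_iff.1 (habel hy) x hx) False.elim
  have hmax := hA.2.2 A₁ (hle.trans h.core_le) hsml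
  have b := hV.bound h A hA.1
  have s := Product.card_mul_card_le (A ⊓ O) V
  have i : Nat.card ↥((A ⊓ O) ⊓ V) ≤ Nat.card ↥(V ⊓ centralizer (A : Set G)) :=
    card_le_of_le fun x hx => ⟨hx.2, mem_centralizer_iff.2 fun a ha => hA.2.1.comm ha hx.1.1⟩
  have e : Nat.card ↥A₁ * Nat.card ↥((A ⊓ O) ⊓ V) ≤
      Nat.card ↥A * Nat.card ↥(V ⊓ centralizer (A : Set G)) := Nat.mul_le_mul hmax i
  have e1 := le_antisymm b (s.trans e)
  have hcard : Nat.card ↥A ≤ Nat.card ↥A₁ :=
    Nat.le_of_mul_le_mul_right ((b.trans s).trans (Nat.mul_le_mul_left _ i)) Nat.card_pos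
  exact ⟨⟨hle.trans h.core_le, hsml, fun B hB hBs => (hA.2.2 B hB hBs).trans hcard⟩, hle, e1⟩

theorem FixGen.zJ_le_push (h : Sit p S g) (hV : FixGen p S V Z) {A : Subgroup G} (hA : MaxA S A) :
    Zj ≤ A ⊓ O ⊔ V := by
  obtain ⟨h1, -, -⟩ := hV.push_max h hA
  exact fun z hz => ZJ.mem_of_centralizes h1 (ZJ.zJ_le S hz)
    (fun a ha => ZJ.commute_of_mem_zJ h1 hz ha) False.elim

theorem FixGen.zJ_le_core (h : Sit p S g) (hV : FixGen p S V Z) : Zj ≤ O := by
  obtain ⟨A, hA⟩ := ZJ.exists_isMaxIn p False S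
  exact (hV.zJ_le_push h hA).trans (hV.push_max h hA).2.1

theorem exists_max_not_le (hJ : ¬ J ≤ O) : ∃ A, MaxA S A ∧ ¬ A ≤ O := by
  by_contra hne
  push Not at hne
  exact hJ (sSup_le hne)

/-- `V Z(J(S))` is normal. -/
theorem FixGen.vzJ_normal (h : Sit p S g) (hV : FixGen p S V Z) (hJ : ¬ J ≤ O) :
    (V ⊔ Zj).Normal := by
  obtain ⟨A, hA, hAO⟩ := exists_max_not_le hJ
  have := hV.normal
  refine normalizer_eq_top_iff.1 (eq_top_iff.2 ?_)
  rw [← h.normal_sup_self (N := normalClosure (A : Set G))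
    fun hle => hAO fun a ha => hle ⟨subset_normalClosure ha, hA.1 ha⟩]
  refine sup_le ?_ ?_
  · rw [normalClosure, closure_le]
    intro y hy
    obtain ⟨a, ha, hc⟩ := Group.mem_conjugatesOfSet_iff.1 hy
    obtain ⟨x, rfl⟩ := isConj_iff.1 hc
    refine mem_normalizer_of_map_le ?_
    rw [Subgroup.map_sup]
    refine sup_le ?_ ?_
    · rintro _ ⟨v, hv, rfl⟩
      exact mem_sup_left (this.conj_mem v hv _)
    · rintro _ ⟨z, hz, rfl⟩
      -- `z` lies in the conjugate of `(A ∩ O) V`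
      obtain ⟨hmax, hle, -⟩ := hV.push_max h hA
      have hmax' := (isMaxIn_conj h.core_le hmax hle x).1
      obtain ⟨w, hw, hwz⟩ := ZJ.mem_of_centralizes hmax' (ZJ.zJ_le S hz)
        (fun c hc => ZJ.commute_of_mem_zJ hmax' hz hc) False.elim
      obtain ⟨u, hu, v, hv, rfl⟩ := mem_sup_of_normal_right.1 hw
      have hwz' : x * (u * v) * x⁻¹ = z := hwz
      have hua : a * u = u * a := hA.2.1.comm ha hu.1
      show x * a * x⁻¹ * z * (x * a * x⁻¹)⁻¹ ∈ V ⊔ Zj
      have e : x * a * x⁻¹ * z * (x * a * x⁻¹)⁻¹ = z * (x * (v⁻¹ * (a * v * a⁻¹)) * x⁻¹) := by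
        calc x * a * x⁻¹ * z * (x * a * x⁻¹)⁻¹
            = x * a * x⁻¹ * (x * (u * v) * x⁻¹) * (x * a * x⁻¹)⁻¹ := by rw [hwz']
          _ = x * (a * u) * v * a⁻¹ * x⁻¹ := by group
          _ = x * (u * a) * v * a⁻¹ * x⁻¹ := by rw [hua]
          _ = (x * (u * v) * x⁻¹) * (x * (v⁻¹ * (a * v * a⁻¹)) * x⁻¹) := by group
          _ = _ := by rw [hwz']
      rw [e]
      exact mul_mem (mem_sup_right hz)
        (mem_sup_left (this.conj_mem _ (mul_mem (inv_mem hv) (this.conj_mem v hv a)) x))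
  · exact (le_inf (by rw [normalizer_eq_top]; exact le_top) (ZJ.le_normalizer_zJ S)).trans
      (normalizer_inf_le_normalizer_sup _ _)

/-- `[Z(J(S)), O_p(G)]` is normal and lies in `Z(J(S))`. -/
theorem FixGen.comm_core_normal (h : Sit p S g) (hV : FixGen p S V Z) (hJ : ¬ J ≤ O) :
    (⁅Zj, O⁆).Normal ∧ ⁅Zj, O⁆ ≤ Zj := by
  have := hV.normal
  have := hV.vzJ_normal h hJ
  have := FittingCores.pCore_normal (G := G) p
  have hle : ⁅Zj, O⁆ ≤ Zj := commutator_le.2 fun z hz o ho => by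
    have := (mem_normalizer_iff.1 (ZJ.le_normalizer_zJ (p := p) (e := False) S (h.core_le ho)) z⁻¹).1
      (inv_mem hz)
    rw [commutatorElement_def, show z * o * z⁻¹ * o⁻¹ = z * (o * z⁻¹ * o⁻¹) by group]
    exact mul_mem hz this
  refine ⟨?_, hle⟩
  have e : ⁅V ⊔ Zj, O⁆ = ⁅Zj, O⁆ := by
    refine le_antisymm (commutator_le.2 fun w hw o ho => ?_) (commutator_mono le_sup_right le_rfl)
    obtain ⟨v, hv, z, hz, rfl⟩ := mem_sup_of_normal_left.1 hw
    have hzo := commutator_mem_commutator hz ho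
    have e1 : o * v⁻¹ = v⁻¹ * o :=
      ((mem_centralizer_iff.1 (hV.core_cent h ho) v⁻¹ (inv_mem hv))).symm
    have e2 : ⁅z, o⁆ * v = v * ⁅z, o⁆ :=
      mem_centralizer_iff.1 ((hV.le_core h hv).2) _ (hV.zJ_le_core h (hle hzo))
    have e3 : ⁅v * z, o⁆ = ⁅z, o⁆ := by
      calc ⁅v * z, o⁆ = v * z * o * z⁻¹ * (v⁻¹ * o⁻¹) := by simp [commutatorElement_def, mul_assoc]
        _ = v * z * o * z⁻¹ * (o⁻¹ * v⁻¹) := by
          rw [show v⁻¹ * o⁻¹ = o⁻¹ * v⁻¹ from (Commute.inv_right (show Commute v⁻¹ o from e1.symm)).eq]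
        _ = (v * ⁅z, o⁆) * v⁻¹ := by simp [commutatorElement_def, mul_assoc]
        _ = (⁅z, o⁆ * v) * v⁻¹ := by rw [e2]
        _ = ⁅z, o⁆ := mul_inv_cancel_right _ _
    rw [e3]
    exact hzo
  rw [← e]
  infer_instance

/-- `S = J(S) O_p(G)`. -/
theorem jSub_sup_core (hE : Cfsg.IsPushingUpSituation p S) (h : Sit p S g) (hJ : ¬ J ≤ O) :
    J ⊔ O = S := by
  refine (eq_of_normalizer_invariant hE).2 _ le_sup_right (sup_le (ZJ.jSub_le S) h.core_le)
    (fun hle => hJ (le_sup_left.trans hle)) ?_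
  have := FittingCores.pCore_normal (G := G) p
  exact (le_inf (ZJ.normalizer_le_normalizer_jSub S) (by rw [normalizer_eq_top (H := O)]; exact le_top)).trans
    (normalizer_inf_le_normalizer_sup _ _)

/-- `[Z(J(S)), S] ∩ Z(S)` is central. -/
theorem FixGen.zJ_comm_center (hE : Cfsg.IsPushingUpSituation p S) (h : Sit p S g)
    (hV : FixGen p S V Z) (hJ : ¬ J ≤ O) :
    ⁅Zj, S⁆ ⊓ (S ⊓ centralizer (S : Set G)) ≤ center G := by
  obtain ⟨hn, hle⟩ := hV.comm_core_normal h hJ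
  have := FittingCores.pCore_normal (G := G) p
  have hS : ⁅Zj, S⁆ ≤ ⁅Zj, O⁆ := commutator_le.2 fun z hz s hs => by
    rw [← jSub_sup_core hE h hJ] at hs
    obtain ⟨j, hj, o, ho, rfl⟩ := mem_sup_of_normal_right.1 hs
    have hzo := commutator_mem_commutator hz ho
    have e1 : j * z = z * j := hz.2 j hj
    have e2 : j * ⁅z, o⁆ = ⁅z, o⁆ * j := (hle hzo).2 j hj
    have e3 : ⁅z, j * o⁆ = ⁅z, o⁆ := by
      calc ⁅z, j * o⁆ = (z * j) * o * z⁻¹ * o⁻¹ * j⁻¹ := by simp [commutatorElement_def, mul_assoc]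
        _ = (j * z) * o * z⁻¹ * o⁻¹ * j⁻¹ := by rw [e1]
        _ = (j * ⁅z, o⁆) * j⁻¹ := by simp [commutatorElement_def, mul_assoc]
        _ = _ := by rw [e2, mul_inv_cancel_right]
    rw [e3]
    exact hzo
  intro c hc
  refine h.mem_center (N := centralizer ((⁅Zj, O⁆ : Subgroup G) : Set G)) (fun hN => hJ fun x hx => hN ⟨?_, ZJ.jSub_le S hx⟩)
    hc.2.2 ?_
  · refine mem_centralizer_iff.2 fun y hy => ?_
    exact ((hle hy).2 x hx).symm
  · rw [mem_centralizer_iff]
    exact fun n hn' => (mem_centralizer_iff.1 hn' _ (hn.conj_mem c (hS hc.1) g)).symm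

/-- `p`-th powers in `V` are centralised by the maximal abelian subgroups. -/
theorem FixGen.pow_central (h : Sit p S g) (hV : FixGen p S V Z) {V₁ Z₁ : Subgroup G}
    (hV₁ : FixGen p S V₁ Z₁) (hle : V₁ ≤ V) (hp₁ : ∀ v ∈ V₁, v ^ p = 1) {A : Subgroup G}
    (hA : MaxA S A) {v : G} (hv : v ∈ V) : v ^ p ∈ centralizer (A : Set G) := by
  obtain ⟨-, -, e⟩ := hV.push_max h hA
  obtain ⟨-, -, e₁⟩ := hV₁.push_max h hA
  set CA := V ⊓ centralizer (A : Set G)
  have hsup : V₁ ⊔ CA = V := by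
    refine eq_of_le_of_card_ge (sup_le hle inf_le_left) ?_
    have s := Product.card_mul_card_le V₁ CA
    rw [show V₁ ⊓ CA = V₁ ⊓ centralizer (A : Set G) by
      rw [← inf_assoc, inf_of_le_left hle]] at s
    refine Nat.le_of_mul_le_mul_left ?_ (Nat.mul_pos (Nat.card_pos (α := ↥(A ⊓ O)))
      (Nat.card_pos (α := ↥(V₁ ⊓ centralizer (A : Set G)))))
    calc Nat.card ↥(A ⊓ O) * Nat.card ↥(V₁ ⊓ centralizer (A : Set G)) * Nat.card ↥V
        = (Nat.card ↥(A ⊓ O) * Nat.card ↥V) * Nat.card ↥(V₁ ⊓ centralizer (A : Set G)) := by ring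
      _ = (Nat.card ↥A * Nat.card ↥(V₁ ⊓ centralizer (A : Set G))) * Nat.card ↥CA := by rw [← e]; ring
      _ = Nat.card ↥(A ⊓ O) * (Nat.card ↥V₁ * Nat.card ↥CA) := by rw [e₁]; ring
      _ ≤ Nat.card ↥(A ⊓ O) * (Nat.card ↥(V₁ ⊔ CA) * Nat.card ↥(V₁ ⊓ centralizer (A : Set G))) :=
        Nat.mul_le_mul_left _ s
      _ = _ := by ring
  rw [← hsup] at hv
  have := hV₁.normal
  obtain ⟨u, hu, c, hc, rfl⟩ := mem_sup_of_normal_left.1 hv
  rw [(show Commute u c from hV.comm h (hle hu) hc.1).mul_pow, hp₁ u hu, one_mul]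
  exact pow_mem hc.2 p

/-! ### The natural module -/

/-- Equality in the offender bound for a subgroup above the core. -/
def Tight (p : ℕ) (S V X : Subgroup G) : Prop :=
  Cfsg.pCore p G ≤ X ∧ X ≤ S ∧
    Nat.card ↥X * Nat.card ↥(V ⊓ centralizer (X : Set G)) = Nat.card ↥(Cfsg.pCore p G) * Nat.card ↥V

/-- Quadratic action on `V`. -/
def Quad (V X : Subgroup G) : Prop := ∀ v ∈ V, ∀ x ∈ X, ⁅v, x⁆ ∈ centralizer (X : Set G)

theorem Quad.mono {X Y : Subgroup G} (h : Quad V X) (hY : Y ≤ X) : Quad V Y :=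
  fun v hv y hy => centralizer_le hY (h v hv y (hY hy))

theorem FixGen.tight_bound (h : Sit p S g) (hV : FixGen p S V Z) {X : Subgroup G}
    (hOX : O ≤ X) (hXS : X ≤ S) :
    Nat.card ↥X * Nat.card ↥(V ⊓ centralizer (X : Set G)) ≤ Nat.card ↥O * Nat.card ↥V := by
  have := hV.bound h X hXS
  rwa [inf_of_le_right hOX] at this

theorem tight_core (h : Sit p S g) (hV : FixGen p S V Z) : Tight p S V O :=
  ⟨le_rfl, h.core_le, by rw [inf_of_le_left (le_centralizer_iff.1 (hV.core_cent h))]⟩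

theorem le_normalizer_of_ge (hS : ⁅S, S⁆ ≤ O) {X : Subgroup G} (hOX : O ≤ X) (hXS : X ≤ S) :
    S ≤ normalizer (X : Set G) := fun s hs => mem_normalizer_of_map_le (by
  rintro _ ⟨x, hx, rfl⟩
  show s * x * s⁻¹ ∈ X
  rw [show s * x * s⁻¹ = ⁅s, x⁆ * x by simp [commutatorElement_def, mul_assoc]]
  exact mul_mem (hOX (hS (commutator_mem_commutator hs (hXS hx)))) hx)

theorem FixGen.tight_sup (h : Sit p S g) (hV : FixGen p S V Z) (hS : ⁅S, S⁆ ≤ O) {X Y : Subgroup G}
    (hX : Tight p S V X) (hY : Tight p S V Y) :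
    Tight p S V (X ⊔ Y) ∧ Tight p S V (X ⊓ Y) ∧
      (V ⊓ centralizer (X : Set G)) ⊔ (V ⊓ centralizer (Y : Set G)) =
        V ⊓ centralizer ((X ⊓ Y : Subgroup G) : Set G) := by
  set CX := V ⊓ centralizer (X : Set G) with hCX
  set CY := V ⊓ centralizer (Y : Set G) with hCY
  have hu := hV.tight_bound h (hX.1.trans le_sup_left) (sup_le hX.2.1 hY.2.1)
  have hi := hV.tight_bound h (le_inf hX.1 hY.1) (inf_le_left.trans hX.2.1)
  have hsub : CX ⊔ CY ≤ V ⊓ centralizer ((X ⊓ Y : Subgroup G) : Set G) :=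
    sup_le (inf_le_inf_left V (centralizer_le inf_le_left)) (inf_le_inf_left V (centralizer_le inf_le_right))
  have hC : CX ⊓ CY = V ⊓ centralizer ((X ⊔ Y : Subgroup G) : Set G) := by
    rw [Product.centralizer_sup, hCX, hCY, inf_inf_inf_comm, inf_idem]
  have c1 := card_sup_eq (hX.2.1.trans (le_normalizer_of_ge hS hY.1 hY.2.1))
  have c2 := Product.card_mul_card_le CX CY
  rw [hC] at c2
  have c3 := card_le_of_le hsub
  have eX := hX.2.2
  have eY := hY.2.2
  rw [← hCX] at eX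
  rw [← hCY] at eY
  set K := Nat.card ↥O * Nat.card ↥V
  set xu := Nat.card ↥(X ⊔ Y)
  set xi := Nat.card ↥(X ⊓ Y)
  set cu := Nat.card ↥(V ⊓ centralizer ((X ⊔ Y : Subgroup G) : Set G))
  set ci := Nat.card ↥(V ⊓ centralizer ((X ⊓ Y : Subgroup G) : Set G))
  set cs := Nat.card ↥(CX ⊔ CY)
  have hK : 0 < K := Nat.mul_pos Nat.card_pos Nat.card_pos
  have key : K * K ≤ (xu * cu) * (xi * cs) :=
    calc K * K = (Nat.card ↥X * Nat.card ↥Y) * (Nat.card ↥CX * Nat.card ↥CY) := by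
          rw [mul_mul_mul_comm (Nat.card ↥X), eX, eY]
      _ ≤ (xu * xi) * (cs * cu) := by rw [← c1]; exact Nat.mul_le_mul_left _ c2
      _ = _ := by ring
  have hi' : xi * cs ≤ xi * ci := Nat.mul_le_mul_left _ c3
  have e1 : xu * cu = K := le_antisymm hu
    (Nat.le_of_mul_le_mul_right (key.trans (Nat.mul_le_mul_left _ (hi'.trans hi))) hK)
  have e2 : K ≤ xi * cs := Nat.le_of_mul_le_mul_left (key.trans (by rw [e1])) hK
  exact ⟨⟨hX.1.trans le_sup_left, sup_le hX.2.1 hY.2.1, e1⟩,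
    ⟨le_inf hX.1 hY.1, inf_le_left.trans hX.2.1, le_antisymm hi (e2.trans hi')⟩,
    eq_of_le_of_card_ge hsub (Nat.le_of_mul_le_mul_left (hi.trans e2) Nat.card_pos)⟩

theorem FixGen.quad_sup (h : Sit p S g) (hV : FixGen p S V Z) (hS : ⁅S, S⁆ ≤ O) {X Y : Subgroup G}
    (hX : Tight p S V X) (hY : Tight p S V Y) (hXq : Quad V X) (hYq : Quad V Y) (hXY : X ⊓ Y = O) :
    Quad V (X ⊔ Y) := by
  obtain ⟨-, -, hgen⟩ := hV.tight_sup h hS hX hY
  rw [hXY, inf_of_le_left (le_centralizer_iff.1 (hV.core_cent h))] at hgen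
  have hn : X ≤ normalizer (Y : Set G) := hX.2.1.trans (le_normalizer_of_ge hS hY.1 hY.2.1)
  have hn' : Y ≤ normalizer (X : Set G) := hY.2.1.trans (le_normalizer_of_ge hS hX.1 hX.2.1)
  have := hV.normal
  -- `[V, Y]` centralises `X`
  have key : ∀ (X' Y' : Subgroup G), Y' ≤ normalizer (X' : Set G) → Quad V Y' →
      (V ⊓ centralizer (X' : Set G)) ⊔ (V ⊓ centralizer (Y' : Set G)) = V →
      ∀ v ∈ V, ∀ y ∈ Y', ⁅v, y⁆ ∈ centralizer ((X' ⊔ Y' : Subgroup G) : Set G) := by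
    intro X' Y' hn hq hg v hv y hy
    rw [Product.centralizer_sup]
    refine ⟨?_, hq v hv y hy⟩
    have hab : V ⊓ centralizer (X' : Set G) ≤ normalizer ((V ⊓ centralizer (Y' : Set G) : Subgroup G) : Set G) :=
      fun u hu => centralizer_le_normalizer _ (mem_centralizer_iff.2 fun w hw => hV.comm h hw.1 hu.1)
    have hv' : v ∈ ((V ⊓ centralizer (X' : Set G)) ⊔ (V ⊓ centralizer (Y' : Set G)) : Subgroup G) := hg.symm ▸ hv
    rw [← SetLike.mem_coe, coe_mul_of_left_le_normalizer_right _ _ hab] at hv'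
    obtain ⟨c, hc, d, hd, rfl⟩ := hv'
    have e : d * y = y * d := (mem_centralizer_iff.1 hd.2 y hy).symm
    have e2 : ⁅c * d, y⁆ = ⁅c, y⁆ := by
      calc ⁅c * d, y⁆ = c * (d * y) * d⁻¹ * c⁻¹ * y⁻¹ := by simp [commutatorElement_def, mul_assoc]
        _ = c * (y * d) * d⁻¹ * c⁻¹ * y⁻¹ := by rw [e]
        _ = ⁅c, y⁆ := by simp [commutatorElement_def, mul_assoc]
    show ⁅c * d, y⁆ ∈ centralizer (X' : Set G)
    rw [e2, commutatorElement_def, show c * y * c⁻¹ * y⁻¹ = c * (y * c⁻¹ * y⁻¹) by group]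
    refine mul_mem hc.2 (mem_centralizer_iff.2 fun x hx => ?_)
    have hx' : y⁻¹ * x * y ∈ X' := by
      have := (mem_normalizer_iff.1 (hn (Y'.inv_mem hy)) x).1 hx
      rwa [inv_inv] at this
    have e3 := mem_centralizer_iff.1 (inv_mem hc.2) _ hx'
    calc x * (y * c⁻¹ * y⁻¹) = y * ((y⁻¹ * x * y) * c⁻¹) * y⁻¹ := by group
      _ = y * (c⁻¹ * (y⁻¹ * x * y)) * y⁻¹ := by rw [e3]
      _ = y * c⁻¹ * y⁻¹ * x := by group
  have kY := key X Y hn' hYq hgen
  have kX := key Y X hn hXq ((sup_comm _ _).trans hgen)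
  intro v hv w hw
  rw [← SetLike.mem_coe, coe_mul_of_left_le_normalizer_right _ _ hn] at hw
  obtain ⟨x, hx, y, hy, rfl⟩ := hw
  have e : ⁅v, x * y⁆ = ⁅v, x⁆ * (x * ⁅v, y⁆ * x⁻¹) := by
    simp [commutatorElement_def, mul_assoc]
  rw [e]
  have h2 := kY v hv y hy
  have h1 : ⁅v, x⁆ ∈ centralizer ((X ⊔ Y : Subgroup G) : Set G) := by
    rw [sup_comm]; exact kX v hv x hx
  rw [mem_centralizer_iff.1 h2 x (mem_sup_left hx), mul_inv_cancel_right]
  exact mul_mem h1 h2

/-- Some tight quadratic subgroup lies properly above the core. -/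
theorem FixGen.exists_quad (h : Sit p S g) (hV : FixGen p S V Z) (hJ : ¬ J ≤ O) :
    ∃ X, Tight p S V X ∧ Quad V X ∧ ¬ X ≤ O := by
  obtain ⟨A₀, hA₀, hA₀O⟩ := exists_max_not_le hJ
  obtain ⟨A, ⟨hA, hAO⟩, hmin⟩ := Set.exists_min_image {A : Subgroup G | MaxA S A ∧ ¬ A ≤ O}
    (fun A => Nat.card ↥(A ⊔ O)) (Set.toFinite _) ⟨A₀, hA₀, hA₀O⟩
  obtain ⟨-, -, e⟩ := hV.push_max h hA
  have hVn := hV.normal
  have := FittingCores.pCore_normal (G := G) p
  -- replacement
  have hquad : ∀ t ∈ V, ∀ a ∈ A, ⁅t, a⁆ ∈ centralizer (A : Set G) := by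
    intro t ht
    set M := closure ((fun a => ⁅t, a⁆) '' (A : Set G)) with hM
    have hMV : M ≤ V := (closure_le _).2 (by
      rintro _ ⟨a, -, rfl⟩
      show ⁅t, a⁆ ∈ V
      rw [commutatorElement_def, show t * a * t⁻¹ * a⁻¹ = t * (a * t⁻¹ * a⁻¹) by group]
      exact mul_mem ht (hVn.conj_mem _ (inv_mem ht) a))
    set CM := A ⊓ centralizer (M : Set G)
    have hmemM : ∀ a ∈ A, ⁅t, a⁆ ∈ M := fun a ha => subset_closure ⟨a, ha, rfl⟩
    -- `|A : C_A(M)| ≤ |M : M ∩ A|`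
    have hfib : ∀ a ∈ A, ∀ b ∈ A, ⁅t, a⁆⁻¹ * ⁅t, b⁆ ∈ A → a⁻¹ * b ∈ CM := by
      intro a ha b hb hab
      have hc : a⁻¹ * b ∈ A := mul_mem (inv_mem ha) hb
      obtain ⟨c, rfl⟩ : ∃ c, b = a * c := ⟨a⁻¹ * b, (mul_inv_cancel_left a b).symm⟩
      rw [inv_mul_cancel_left] at hc ⊢
      have hcA : ⁅t, c⁆ ∈ A := by
        have h1 : a * ⁅t, c⁆ * a⁻¹ ∈ A := by
          rwa [show ⁅t, a⁆⁻¹ * ⁅t, a * c⁆ = a * ⁅t, c⁆ * a⁻¹ by
            simp [commutatorElement_def, mul_assoc]] at hab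
        simpa [mul_assoc] using mul_mem (mul_mem (inv_mem ha) h1) ha
      have htc : ⁅t, c⁆ ∈ V := by
        rw [commutatorElement_def, show t * c * t⁻¹ * c⁻¹ = t * (c * t⁻¹ * c⁻¹) by group]
        exact mul_mem ht (hVn.conj_mem _ (inv_mem ht) c)
      refine ⟨hc, ?_⟩
      refine (le_centralizer_iff.1 (?_ : M ≤ centralizer (zpowers c : Set G))) (mem_zpowers c)
      rw [hM, closure_le, centralizer_eq_iInf]
      rintro _ ⟨d, hd, rfl⟩
      simp only [SetLike.mem_coe, mem_iInf, mem_centralizer_singleton_iff]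
      intro x hx
      have hxc : Commute (⁅t, d⁆) c := by
        set e := t⁻¹ * ⁅t, c⁆ * t with he
        have hee : e = ⁅t, c⁆ := by
          rw [he, mul_assoc, ← hV.comm h ht htc, inv_mul_cancel_left]
        have hct : c * t * c⁻¹ = t * e⁻¹ := by
          rw [he]; simp [commutatorElement_def, mul_assoc]
        have hed : d * e⁻¹ = e⁻¹ * d := hA.2.1.comm hd (inv_mem (hee ▸ hcA))
        have hcd : c * d = d * c := hA.2.1.comm hc hd
        have key : c * ⁅t, d⁆ * c⁻¹ = ⁅t, d⁆ := by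
          calc c * ⁅t, d⁆ * c⁻¹
              = (c * t * c⁻¹) * (c * d * c⁻¹) * (c * t * c⁻¹)⁻¹ * (c * d * c⁻¹)⁻¹ := by
                simp [commutatorElement_def, mul_assoc]
            _ = (t * e⁻¹) * d * (t * e⁻¹)⁻¹ * d⁻¹ := by rw [hct, hcd, mul_inv_cancel_right]
            _ = t * (e⁻¹ * d) * (t * e⁻¹)⁻¹ * d⁻¹ := by group
            _ = t * (d * e⁻¹) * (t * e⁻¹)⁻¹ * d⁻¹ := by rw [hed]
            _ = ⁅t, d⁆ := by simp [commutatorElement_def, mul_assoc]
        exact (mul_inv_eq_iff_eq_mul.1 key).symm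
      obtain ⟨k, rfl⟩ := mem_zpowers_iff.1 hx
      exact (hxc.zpow_right k).eq
    have hineq : Nat.card ↥A * Nat.card ↥(M ⊓ A) ≤ Nat.card ↥M * Nat.card ↥CM := by
      classical
      let q : ↥A → ↥M ⧸ (A.subgroupOf M) := fun a => QuotientGroup.mk ⟨_, hmemM a a.2⟩
      have hq : ∀ a b : ↥A, q a = q b → ((a : G))⁻¹ * b ∈ CM := fun a b hab =>
        hfib a a.2 b b.2 (Subgroup.mem_subgroupOf.1 ((QuotientGroup.eq (s := A.subgroupOf M)
          (a := (⟨_, hmemM a a.2⟩ : ↥M)) (b := ⟨_, hmemM b b.2⟩)).1 hab))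
      let enc : ↥A → (↥M ⧸ (A.subgroupOf M)) × ↥CM := fun a =>
        (q a, ⟨((Function.invFun q (q a) : ↥A) : G)⁻¹ * a,
          hq _ _ (Function.invFun_eq ⟨a, rfl⟩)⟩)
      have hinj : Function.Injective enc := fun a b hab => by
        obtain ⟨h1, h2⟩ := Prod.ext_iff.1 hab
        have h3 := congrArg Subtype.val h2
        simp only [enc] at h1 h3
        rw [h1] at h3
        exact Subtype.ext (mul_left_cancel h3)
      have h1 := Nat.card_le_card_of_injective enc hinj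
      rw [Nat.card_prod] at h1
      have h2 := card_eq_card_quotient_mul_card_subgroup (A.subgroupOf M)
      rw [Nat.card_congr (subgroupOfEquivOfLe (inf_le_left : M ⊓ A ≤ M)).toEquiv.symm,
        inf_comm, inf_subgroupOf_right]
      calc Nat.card ↥A * Nat.card ↥(A.subgroupOf M)
          ≤ Nat.card (↥M ⧸ A.subgroupOf M) * Nat.card ↥CM * Nat.card ↥(A.subgroupOf M) :=
            Nat.mul_le_mul_right _ h1
        _ = Nat.card ↥M * Nat.card ↥CM := by rw [h2]; ring
    -- the replacement `A* = C_A(M) M`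
    have habel := CLarge.sup_le_centralizer_sup (H := CM) (K := M)
      (fun x hx => mem_centralizer_iff.2 fun y hy => hA.2.1.comm hy.1 hx.1)
      (fun x hx => mem_centralizer_iff.2 fun y hy => hV.comm h (hMV hy) (hMV hx)) inf_le_right
    have hsS : CM ⊔ M ≤ S := sup_le (inf_le_left.trans hA.1) (hMV.trans (hV.le_S h))
    have hsml : ZJ.Sml p False (CM ⊔ M) :=
      ZJ.sml_of_comm (fun x hx y hy => mem_centralizer_iff.1 (habel hy) x hx) False.elim
    have hcard : Nat.card ↥A ≤ Nat.card ↥(CM ⊔ M) := by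
      refine Nat.le_of_mul_le_mul_right (c := Nat.card ↥(M ⊓ A)) ?_ Nat.card_pos
      refine hineq.trans ?_
      rw [mul_comm]
      refine (Product.card_mul_card_le CM M).trans (Nat.mul_le_mul_left _ (card_le_of_le ?_))
      exact fun x hx => ⟨hx.2, hx.1.1⟩
    have hmax : MaxA S (CM ⊔ M) := ⟨hsS, hsml, fun B hB hBs => (hA.2.2 B hB hBs).trans hcard⟩
    have hMO : M ≤ O := hMV.trans ((hV.le_core h).trans inf_le_left)
    by_cases hstar : CM ⊔ M ≤ O
    · exfalso
      set CV := V ⊓ centralizer (A : Set G)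
      have hVM : M ⊔ CV = V := by
        refine eq_of_le_of_card_ge (sup_le hMV inf_le_left) ?_
        have hCMO : Nat.card ↥CM ≤ Nat.card ↥(A ⊓ O) :=
          card_le_of_le (le_inf inf_le_left (le_sup_left.trans hstar))
        have s := Product.card_mul_card_le M CV
        have i : Nat.card ↥(M ⊓ CV) ≤ Nat.card ↥(M ⊓ A) := card_le_of_le fun x hx =>
          ⟨hx.1, ZJ.mem_of_centralizes hA (hV.le_S h hx.2.1)
            (fun a ha => mem_centralizer_iff.1 hx.2.2 a ha) False.elim⟩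
        refine Nat.le_of_mul_le_mul_right (c := Nat.card ↥(A ⊓ O) * Nat.card ↥(M ⊓ A)) ?_
          (Nat.mul_pos Nat.card_pos Nat.card_pos)
        calc Nat.card ↥V * (Nat.card ↥(A ⊓ O) * Nat.card ↥(M ⊓ A))
            = (Nat.card ↥A * Nat.card ↥(M ⊓ A)) * Nat.card ↥CV := by
              rw [mul_comm (Nat.card ↥V), mul_assoc, mul_comm (Nat.card ↥(M ⊓ A)),
                ← mul_assoc, ← e]; ring
          _ ≤ (Nat.card ↥M * Nat.card ↥(A ⊓ O)) * Nat.card ↥CV :=
              Nat.mul_le_mul_right _ (hineq.trans (Nat.mul_le_mul_left _ hCMO))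
          _ = (Nat.card ↥M * Nat.card ↥CV) * Nat.card ↥(A ⊓ O) := by ring
          _ ≤ (Nat.card ↥(M ⊔ CV) * Nat.card ↥(M ⊓ A)) * Nat.card ↥(A ⊓ O) :=
              Nat.mul_le_mul_right _ (s.trans (Nat.mul_le_mul_left _ i))
          _ = _ := by ring
      set U := ⁅V, A⁆ with hU
      have hMU : M ≤ U := (closure_le _).2 (by
        rintro _ ⟨a, ha, rfl⟩; exact commutator_mem_commutator ht ha)
      have hUU : U ≤ ⁅U, A⁆ := commutator_le.2 fun v hv a ha => by
        have hn : M ≤ normalizer (CV : Set G) := fun u hu => centralizer_le_normalizer _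
          (mem_centralizer_iff.2 fun w hw => hV.comm h hw.1 (hMV hu))
        rw [← hVM, ← SetLike.mem_coe, coe_mul_of_left_le_normalizer_right _ _ hn] at hv
        obtain ⟨m, hm, c, hc, rfl⟩ := hv
        have e : c * a = a * c := (mem_centralizer_iff.1 hc.2 a ha).symm
        have e2 : ⁅m * c, a⁆ = ⁅m, a⁆ := by
          calc ⁅m * c, a⁆ = m * (c * a) * c⁻¹ * m⁻¹ * a⁻¹ := by simp [commutatorElement_def, mul_assoc]
            _ = m * (a * c) * c⁻¹ * m⁻¹ * a⁻¹ := by rw [e]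
            _ = ⁅m, a⁆ := by simp [commutatorElement_def, mul_assoc]
        show ⁅m * c, a⁆ ∈ ⁅U, A⁆
        rw [e2]
        exact commutator_mem_commutator (hMU hm) ha
      haveI := h.pgroup.isNilpotent
      have hk : ∀ k, U ≤ ((⊤ : Subgroup ↥S).lowerCentralSeries k).map S.subtype := by
        intro k
        induction k with
        | zero =>
          intro x hx
          exact ⟨⟨x, hV.le_S h (commutator_le_left V A hx)⟩, by simp, rfl⟩
        | succ k ih =>
          refine hUU.trans ?_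
          rw [commutator_le]
          intro u hu s hs
          obtain ⟨u', hu', rfl⟩ := ih hu
          refine ⟨⁅u', ⟨s, hA.1 hs⟩⁆, ?_, by simp [commutatorElement_def]⟩
          exact commutator_mem_commutator hu' (mem_top _)
      obtain ⟨k, hkn⟩ := Subgroup.nilpotent_iff_lowerCentralSeries.1 ‹Group.IsNilpotent ↥S›
      have hbot : U = ⊥ := by
        have := hk k
        rwa [hkn, Subgroup.map_bot, le_bot_iff] at this
      exact hAO fun a ha => hV.cent_le h ⟨(le_centralizer_iff.1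
        (commutator_eq_bot_iff_le_centralizer.1 hbot)) ha, hA.1 ha⟩
    · -- minimality
      have hle : (CM ⊔ M) ⊔ O ≤ A ⊔ O := by
        refine sup_le (sup_le (inf_le_left.trans le_sup_left) (hMO.trans le_sup_right)) le_sup_right
      have heq := eq_of_le_of_card_ge hle (hmin _ ⟨hmax, hstar⟩)
      intro a ha
      have hAcM : A ≤ centralizer (M : Set G) := by
        intro b hb
        have hb' : b ∈ CM ⊔ O := by
          have : b ∈ (CM ⊔ M) ⊔ O := heq.symm ▸ mem_sup_left hb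
          rwa [sup_assoc, sup_of_le_right hMO] at this
        obtain ⟨c, hc, o, ho, rfl⟩ := mem_sup_of_normal_right.1 hb'
        exact mul_mem hc.2 (centralizer_le hMV (hV.core_cent h ho))
      exact mem_centralizer_iff.2 fun b hb =>
        (mem_centralizer_iff.1 (hAcM hb) _ (hmemM a ha)).symm
  have hAn : A ≤ normalizer (O : Set G) := by rw [normalizer_eq_top]; exact le_top
  have hC : V ⊓ centralizer ((A ⊔ O : Subgroup G) : Set G) = V ⊓ centralizer (A : Set G) := by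
    rw [Product.centralizer_sup, ← inf_assoc]
    exact inf_eq_left.2 (inf_le_left.trans (le_centralizer_iff.1 (hV.core_cent h)))
  refine ⟨A ⊔ O, ⟨le_sup_right, sup_le hA.1 h.core_le, ?_⟩, fun v hv x hx => ?_,
    fun hle => hAO (le_sup_left.trans hle)⟩
  · rw [hC]
    refine Nat.eq_of_mul_eq_mul_right (m := Nat.card ↥(A ⊓ O)) Nat.card_pos ?_
    calc Nat.card ↥(A ⊔ O) * Nat.card ↥(V ⊓ centralizer (A : Set G)) * Nat.card ↥(A ⊓ O)
        = Nat.card ↥(A ⊔ O) * Nat.card ↥(A ⊓ O) * Nat.card ↥(V ⊓ centralizer (A : Set G)) := by ring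
      _ = Nat.card ↥A * Nat.card ↥O * Nat.card ↥(V ⊓ centralizer (A : Set G)) := by
        rw [card_sup_eq hAn]
      _ = Nat.card ↥O * (Nat.card ↥A * Nat.card ↥(V ⊓ centralizer (A : Set G))) := by ring
      _ = _ := by rw [e]; ring
  · obtain ⟨a, ha, o, ho, rfl⟩ := mem_sup_of_normal_right.1 hx
    have e1 : v * o = o * v := mem_centralizer_iff.1 (hV.core_cent h ho) v hv
    have e2 : ⁅v, a * o⁆ = ⁅v, a⁆ := by
      calc ⁅v, a * o⁆ = v * a * o * v⁻¹ * o⁻¹ * a⁻¹ := by simp [commutatorElement_def, mul_assoc]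
        _ = v * a * (o * v⁻¹) * o⁻¹ * a⁻¹ := by group
        _ = v * a * (v⁻¹ * o) * o⁻¹ * a⁻¹ := by
          rw [(Commute.inv_left (show Commute v o from e1)).eq.symm]
        _ = ⁅v, a⁆ := by simp [commutatorElement_def, mul_assoc]
    rw [e2, Product.centralizer_sup]
    refine ⟨hquad v hv a ha, centralizer_le le_rfl (le_centralizer_iff.1 (hV.core_cent h) ?_)⟩
    rw [commutatorElement_def, show v * a * v⁻¹ * a⁻¹ = v * (a * v⁻¹ * a⁻¹) by group]
    exact mul_mem hv (hVn.conj_mem _ (inv_mem hv) a)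

/-- `S` acts quadratically on `V`, with `|V : C_V(S)| = |S : O_p(G)|`. -/
theorem FixGen.tight_top (hE : Cfsg.IsPushingUpSituation p S) (h : Sit p S g)
    (hV : FixGen p S V Z) (hJ : ¬ J ≤ O) : Tight p S V S ∧ Quad V S := by
  obtain ⟨hS, htor⟩ := eq_of_normalizer_invariant hE
  have := hV.normal
  have := FittingCores.pCore_normal (G := G) p
  obtain ⟨X₀, hX₀t, hX₀q, hX₀O⟩ := hV.exists_quad h hJ
  obtain ⟨X₁, ⟨hX₁t, hX₁q, hX₁O⟩, hmin⟩ := Set.exists_min_image
    {X : Subgroup G | Tight p S V X ∧ Quad V X ∧ ¬ X ≤ O} (fun X => Nat.card ↥X) (Set.toFinite _)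
    ⟨X₀, hX₀t, hX₀q, hX₀O⟩
  obtain ⟨Q, ⟨hQt, hQq⟩, hmax⟩ := Set.exists_max_image
    {X : Subgroup G | Tight p S V X ∧ Quad V X} (fun X => Nat.card ↥X) (Set.toFinite _)
    ⟨X₁, hX₁t, hX₁q⟩
  -- the minimal ones lie in `Q`
  set 𝓜 := {X : Subgroup G | Tight p S V X ∧ Quad V X ∧ ¬ X ≤ O ∧ Nat.card ↥X = Nat.card ↥X₁}
  have hleQ : ∀ X ∈ 𝓜, X ≤ Q := by
    rintro X ⟨hXt, hXq, hXO, hc⟩
    obtain ⟨hu, hi, -⟩ := hV.tight_sup h hS hXt hQt
    by_cases hle : X ⊓ Q ≤ O
    · have := hV.quad_sup h hS hXt hQt hXq hQq (le_antisymm hle (le_inf hXt.1 hQt.1))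
      exact le_sup_left.trans (eq_of_le_of_card_ge le_sup_right (hmax _ ⟨hu, this⟩)).ge
    · exact (eq_of_le_of_card_ge inf_le_left
        (hc.trans_le (hmin _ ⟨hi, hXq.mono inf_le_left, hle⟩))).ge.trans inf_le_right
  set Y := sSup 𝓜
  have hX₁Y : X₁ ≤ Y := le_sSup ⟨hX₁t, hX₁q, hX₁O, rfl⟩
  have hconj : ∀ n ∈ normalizer (S : Set G), ∀ X ∈ 𝓜, X.map (MulAut.conj n).toMonoidHom ∈ 𝓜 := by
    rintro n hn X ⟨hXt, hXq, hXO, hc⟩
    set f := (MulAut.conj n).toMonoidHom with hf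
    have hfi : Function.Injective f := (MulAut.conj n).injective
    have hOf : (O : Subgroup G).map f = O :=
      mem_normalizer_iff_map_conj_eq.1 (by rw [normalizer_eq_top (H := O)]; exact mem_top n)
    have hVf : V.map f = V :=
      mem_normalizer_iff_map_conj_eq.1 (by rw [normalizer_eq_top (H := V)]; exact mem_top n)
    have hC : V ⊓ centralizer ((X.map f : Subgroup G) : Set G) =
        (V ⊓ centralizer (X : Set G)).map f := by
      rw [Subgroup.map_inf _ _ _ hfi, hVf]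
      congr 1
      ext y
      constructor
      · intro hy
        obtain ⟨x, rfl⟩ := (MulAut.conj n).surjective y
        exact ⟨x, mem_centralizer_iff.2 fun z hz => hfi (by
          rw [map_mul, map_mul]; exact mem_centralizer_iff.1 hy _ ⟨z, hz, rfl⟩), rfl⟩
      · rintro ⟨x, hx, rfl⟩
        rw [mem_centralizer_iff]
        rintro _ ⟨z, hz, rfl⟩
        rw [← map_mul, ← map_mul, mem_centralizer_iff.1 hx z hz]
    refine ⟨⟨hOf ▸ map_mono hXt.1,
      (mem_normalizer_iff_map_conj_eq.1 hn).le.trans' (map_mono hXt.2.1), ?_⟩, ?_, ?_, ?_⟩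
    · rw [hC, card_map_of_injective hfi, card_map_of_injective hfi]
      exact hXt.2.2
    · intro v hv _ ⟨x, hx, e⟩
      subst e
      obtain ⟨w, hw, rfl⟩ : v ∈ V.map f := hVf.symm ▸ hv
      rw [mem_centralizer_iff]
      rintro _ ⟨z, hz, rfl⟩
      rw [← map_commutatorElement, ← map_mul, ← map_mul, mem_centralizer_iff.1 (hXq w hw x hx) z hz]
    · intro hle
      apply hXO
      intro x hx
      obtain ⟨o, ho, e⟩ : f x ∈ (O : Subgroup G).map f := hOf.symm ▸ hle ⟨x, hx, rfl⟩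
      exact hfi e ▸ ho
    · rw [card_map_of_injective hfi, hc]
  have hYinv : normalizer (S : Set G) ≤ normalizer (Y : Set G) := fun n hn => by
    refine mem_normalizer_of_map_le ?_
    show (sSup 𝓜).map _ ≤ sSup 𝓜
    rw [sSup_eq_iSup]
    simp only [Subgroup.map_iSup]
    refine iSup₂_le fun X hX => le_iSup₂_of_le _ (hconj n hn X hX) le_rfl
  have hYS := htor Y (hX₁t.1.trans hX₁Y) (sSup_le fun X hX => hX.1.2.1)
    (fun hle => hX₁O (hX₁Y.trans hle)) hYinv
  have hQS : Q = S := le_antisymm hQt.2.1 (hYS.ge.trans (sSup_le hleQ))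
  rw [hQS] at hQt hQq
  exact ⟨hQt, hQq⟩

/-- `V = C_V(S) C_V(S^g)`. -/
theorem FixGen.eq_sup (hE : Cfsg.IsPushingUpSituation p S) (h : Sit p S g)
    (hV : FixGen p S V Z) (hJ : ¬ J ≤ O) :
    V = (V ⊓ centralizer (S : Set G)) ⊔
      (V ⊓ centralizer ((S.map (MulAut.conj g).toMonoidHom : Subgroup G) : Set G)) := by
  obtain ⟨⟨-, -, hcard⟩, hquad⟩ := hV.tight_top hE h hJ
  have := hV.normal
  set Sg := S.map (MulAut.conj g).toMonoidHom
  set V₀ := V ⊓ centralizer (S : Set G)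
  set V₁ := V ⊓ centralizer (Sg : Set G)
  -- an element of `V` fixed by `Sg` and not central
  obtain ⟨z, hz, hzc⟩ : ∃ z ∈ Z, z ∉ center G := by
    by_contra hne
    push Not at hne
    exact hV.noncentral (by rw [hV.gen]; exact normalClosure_le_normal hne)
  set v := g * z * g⁻¹
  have hvV : v ∈ V := this.conj_mem z (hV.subset hz) g
  have hvc : v ∉ center G := fun hc => hzc (by
    simpa [v, mul_assoc] using (inferInstance : (center G).Normal).conj_mem _ hc g⁻¹)
  have hvS : ∀ s ∈ Sg, s * v = v * s := by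
    rintro _ ⟨s, hs, rfl⟩
    show g * s * g⁻¹ * (g * z * g⁻¹) = g * z * g⁻¹ * (g * s * g⁻¹)
    calc g * s * g⁻¹ * (g * z * g⁻¹) = g * (s * z) * g⁻¹ := by group
      _ = g * (z * s) * g⁻¹ := by rw [mem_centralizer_iff.1 (hV.fix hz).2 s hs]
      _ = _ := by group
  have hcomm : ∀ a : G, ⁅v, a⁆ ∈ V := fun a => by
    rw [commutatorElement_def, show v * a * v⁻¹ * a⁻¹ = v * (a * v⁻¹ * a⁻¹) by group]
    exact mul_mem hvV (this.conj_mem _ (inv_mem hvV) a)
  have hprod : ∀ a b : G, ⁅v, a * b⁆ = ⁅v, a⁆ * (a * ⁅v, b⁆ * a⁻¹) := fun a b => by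
    simp [commutatorElement_def, mul_assoc]
  -- the commutator map into `V₀` modulo the centre
  let lam : ↥S →* G ⧸ center G := MonoidHom.mk' (fun s => QuotientGroup.mk ⁅v, (s : G)⁆) fun s t => by
    show (QuotientGroup.mk ⁅v, (s : G) * t⁆ : G ⧸ center G) = _
    rw [hprod, mem_centralizer_iff.1 (hquad v hvV t t.2) s s.2, mul_inv_cancel_right]
    rfl
  have hlker : lam.ker ≤ (O).subgroupOf S := by
    intro s hs
    by_contra hsO
    let H : Subgroup G :=
      { carrier := {a | ⁅v, a⁆ ∈ center G}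
        one_mem' := by simp
        mul_mem' := fun {a b} ha hb => by
          show ⁅v, a * b⁆ ∈ center G
          rw [hprod]
          exact mul_mem ha ((inferInstance : (center G).Normal).conj_mem _ hb a)
        inv_mem' := fun {a} ha => by
          show ⁅v, a⁻¹⁆ ∈ center G
          have e := hprod a a⁻¹
          rw [mul_inv_cancel, commutatorElement_one_right] at e
          have e2 : ⁅v, a⁻¹⁆ = a⁻¹ * ⁅v, a⁆⁻¹ * a := by
            rw [eq_comm, mul_eq_one_iff_inv_eq] at e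
            rw [e]; group
          rw [e2]
          simpa using (inferInstance : (center G).Normal).conj_mem _ (inv_mem ha) a⁻¹ }
    have hH : H = ⊤ := by
      by_contra hne
      refine hsO (h.meet H hne (fun a ha => ?_) ⟨(QuotientGroup.eq_one_iff ⁅v, (s : G)⁆).1 hs, s.2⟩)
      show ⁅v, a⁆ ∈ center G
      rw [show ⁅v, a⁆ = 1 from commutatorElement_eq_one_iff_mul_comm.2 (hvS a ha).symm]
      exact one_mem _
    -- then `v` is central
    let mu : G →* G := MonoidHom.mk' (fun a => ⁅v, a⁆) fun a b => by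
      rw [hprod, mem_center_iff.1 ((hH.symm ▸ mem_top b : b ∈ H)) a, mul_inv_cancel_right]
    have hker : Sg ≤ mu.ker := fun a ha => commutatorElement_eq_one_iff_mul_comm.2 (hvS a ha).symm
    have hpg : IsPGroup p ↥mu.range := h.pgroup.to_le (by
      rintro _ ⟨a, rfl⟩
      exact hV.le_S h (hcomm a))
    obtain ⟨k, hk⟩ := IsPGroup.iff_card.1 hpg
    have hdvd : p ^ k ∣ S.index := by
      rw [← hk, ← index_ker]
      refine (index_dvd_of_le hker).trans ?_
      rw [index_map_of_bijective (MulAut.conj g).bijective]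
    have hk0 : Nat.card ↥mu.range = 1 := by
      rcases k with _ | k
      · rw [hk, pow_zero]
      · exact absurd ((dvd_pow_self p (Nat.succ_ne_zero k)).trans hdvd) h.not_dvd
    exact hvc (mem_center_iff.2 fun a => (commutatorElement_eq_one_iff_mul_comm.1
      (by
        have : mu a ∈ mu.range := ⟨a, rfl⟩
        rwa [card_eq_one.1 hk0, mem_bot] at this)).symm)
  have hlrange : lam.range ≤ V₀.map (QuotientGroup.mk' (center G)) := by
    rintro _ ⟨s, rfl⟩
    exact ⟨_, ⟨hcomm s, hquad v hvV s s.2⟩, rfl⟩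
  have c1 : Nat.card ↥S = Nat.card ↥lam.ker * Nat.card ↥lam.range := by
    rw [← index_ker, card_mul_index]
  have c2 : Nat.card ↥(V₀ ⊓ center G) * Nat.card ↥(V₀.map (QuotientGroup.mk' (center G))) =
      Nat.card ↥V₀ := by
    set r := (QuotientGroup.mk' (center G)).comp V₀.subtype
    have e1 : r.range = V₀.map (QuotientGroup.mk' (center G)) := by
      rw [MonoidHom.range_comp, range_subtype]
    have e2 : r.ker.map V₀.subtype = V₀ ⊓ center G := by
      ext x
      simp [r, mem_map, and_comm]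
    rw [← e1, ← e2, card_map_of_injective V₀.subtype_injective, ← index_ker, card_mul_index]
  have hq : Nat.card ↥S * Nat.card ↥(V₀ ⊓ center G) ≤ Nat.card ↥O * Nat.card ↥V₀ := by
    rw [c1, ← c2, mul_assoc, mul_comm (Nat.card ↥lam.range)]
    refine Nat.mul_le_mul ?_ (Nat.mul_le_mul_left _ (card_le_of_le hlrange))
    refine (card_le_of_le hlker).trans (le_of_eq ?_)
    exact Nat.card_congr (subgroupOfEquivOfLe h.core_le).toEquiv
  have hinf : V₀ ⊓ V₁ ≤ V₀ ⊓ center G := by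
    refine fun x hx => ⟨hx.1, ?_⟩
    have htop : S ⊔ Sg = ⊤ := by
      by_contra hne
      exact hJ ((ZJ.jSub_le S).trans ((le_inf le_sup_left le_rfl).trans (h.meet _ hne le_sup_right)))
    have hle : S ⊔ Sg ≤ centralizer {x} := sup_le
      (fun s hs => mem_centralizer_singleton_iff.2 (mem_centralizer_iff.1 hx.1.2 s hs))
      (fun s hs => mem_centralizer_singleton_iff.2 (mem_centralizer_iff.1 hx.2.2 s hs))
    exact mem_center_iff.2 fun y => mem_centralizer_singleton_iff.1 (hle (htop.symm ▸ mem_top y))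
  have hV₁ : Nat.card ↥V₁ = Nat.card ↥V₀ := by
    have e : V₁ = V₀.map (MulAut.conj g).toMonoidHom := by
      ext x
      constructor
      · intro hx
        refine ⟨g⁻¹ * x * g⁻¹⁻¹, ⟨this.conj_mem x hx.1 g⁻¹, mem_centralizer_iff.2 fun s hs => ?_⟩,
          by simp [mul_assoc]⟩
        have e := mem_centralizer_iff.1 hx.2 (g * s * g⁻¹) ⟨s, hs, rfl⟩
        calc s * (g⁻¹ * x * g⁻¹⁻¹) = g⁻¹ * ((g * s * g⁻¹) * x) * g := by group
          _ = g⁻¹ * (x * (g * s * g⁻¹)) * g := by rw [e]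
          _ = _ := by group
      · rintro ⟨y, hy, rfl⟩
        refine ⟨this.conj_mem y hy.1 g, mem_centralizer_iff.2 ?_⟩
        rintro _ ⟨s, hs, rfl⟩
        rw [← map_mul, ← map_mul, mem_centralizer_iff.1 hy.2 s hs]
    rw [e, card_map_of_injective (MulAut.conj g).injective]
  symm
  refine eq_of_le_of_card_ge (sup_le inf_le_left inf_le_left) ?_
  have s := Product.card_mul_card_le V₀ V₁
  have i := card_le_of_le hinf
  rw [hV₁] at s
  refine Nat.le_of_mul_le_mul_left ?_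
    (Nat.mul_pos (Nat.card_pos (α := ↥(O))) (Nat.card_pos (α := ↥(V₀ ⊓ center G))))
  calc Nat.card ↥O * Nat.card ↥(V₀ ⊓ center G) * Nat.card ↥V
      = (Nat.card ↥O * Nat.card ↥V) * Nat.card ↥(V₀ ⊓ center G) := by ring
    _ = (Nat.card ↥S * Nat.card ↥(V₀ ⊓ center G)) * Nat.card ↥V₀ := by rw [← hcard]; ring
    _ ≤ (Nat.card ↥O * Nat.card ↥V₀) * Nat.card ↥V₀ := Nat.mul_le_mul_right _ hq
    _ = Nat.card ↥O * (Nat.card ↥V₀ * Nat.card ↥V₀) := by ring
    _ ≤ Nat.card ↥O * (Nat.card ↥(V₀ ⊔ V₁) * Nat.card ↥(V₀ ⊓ center G)) :=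
        Nat.mul_le_mul_left _ (s.trans (Nat.mul_le_mul_left _ i))
    _ = _ := by ring

/-- **Baumann's lemma.** -/
theorem FixGen.baumann (hE : Cfsg.IsPushingUpSituation p S) (h : Sit p S g)
    (hV : FixGen p S V Z) (hJ : ¬ J ≤ O) :
    normalClosure ((S ⊓ centralizer (Zj : Set G) : Subgroup G) : Set G) ⊓ S ≤
      centralizer (Zj : Set G) := by
  obtain ⟨hn1, hle⟩ := hV.comm_core_normal h hJ
  have hVn := hV.normal
  have := hV.vzJ_normal h hJ
  have hO := FittingCores.pCore_normal (G := G) p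
  have hJS : J ≤ S := ZJ.jSub_le S
  set Sg := S.map (MulAut.conj g).toMonoidHom
  set cg := (MulAut.conj g).toMonoidHom with hcg
  set X := Zj ⊓ (Zj).map cg
  set N1 := ⁅Zj, O⁆
  have hNg : N1 ≤ (Zj).map cg := by
    intro y hy
    exact ⟨g⁻¹ * y * g⁻¹⁻¹, hle (hn1.conj_mem y hy g⁻¹), by simp [cg, mul_assoc]⟩
  have hXn : (X ⊔ N1).Normal := by
    refine normalizer_eq_top_iff.1 ?_
    have hJn : J ≤ normalizer ((X ⊔ N1 : Subgroup G) : Set G) := fun x hx =>
      centralizer_le_normalizer _ (mem_centralizer_iff.2 fun y hy =>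
        (((sup_le inf_le_left hle : X ⊔ N1 ≤ Zj) hy).2 x hx).symm)
    have hJgn : (J).map cg ≤ normalizer ((X ⊔ N1 : Subgroup G) : Set G) := by
      rintro _ ⟨x, hx, rfl⟩
      refine centralizer_le_normalizer _ (mem_centralizer_iff.2 fun y hy => ?_)
      obtain ⟨y', hy', rfl⟩ := (sup_le inf_le_right hNg : X ⊔ N1 ≤ (Zj).map cg) hy
      rw [← map_mul, ← map_mul, hy'.2 x hx]
    have hOn : O ≤ normalizer ((X ⊔ N1 : Subgroup G) : Set G) := fun o ho => mem_normalizer_of_map_le (by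
      rw [Subgroup.map_sup]
      refine sup_le ?_ ?_
      · rintro _ ⟨x, hx, rfl⟩
        show o * x * o⁻¹ ∈ X ⊔ N1
        rw [show o * x * o⁻¹ = ⁅x, o⁆⁻¹ * x by simp [commutatorElement_def, mul_assoc]]
        exact mul_mem (mem_sup_right (inv_mem (commutator_mem_commutator hx.1 ho))) (mem_sup_left hx)
      · rintro _ ⟨x, hx, rfl⟩
        exact mem_sup_right (hn1.conj_mem x hx o))
    have hS : S ≤ normalizer ((X ⊔ N1 : Subgroup G) : Set G) := by
      rw [← jSub_sup_core hE h hJ]; exact sup_le hJn hOn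
    have hSg : Sg ≤ normalizer ((X ⊔ N1 : Subgroup G) : Set G) := by
      show S.map cg ≤ _
      rw [← jSub_sup_core hE h hJ, Subgroup.map_sup]
      refine sup_le hJgn ?_
      rintro _ ⟨o, ho, rfl⟩
      exact hOn (hO.conj_mem o ho g)
    by_contra hne
    exact hJ (hJS.trans ((le_inf hS le_rfl).trans (h.meet _ hne hSg)))
  set N := normalClosure (J : Set G)
  have hNX : N ≤ centralizer ((X ⊔ N1 : Subgroup G) : Set G) :=
    normalClosure_le_normal fun x hx => mem_centralizer_iff.2 fun y hy =>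
      (((sup_le inf_le_left hle : X ⊔ N1 ≤ Zj) hy).2 x hx).symm
  -- `N ∩ O` centralises `Z(J(S))`
  have hkey : N ⊓ O ≤ centralizer (Zj : Set G) := by
    intro n hn
    rw [mem_centralizer_iff]
    intro z hz
    have hzM : g⁻¹ * z * g⁻¹⁻¹ ∈ V ⊔ Zj :=
      (hV.vzJ_normal h hJ).conj_mem z (mem_sup_right hz) g⁻¹
    obtain ⟨v, hv, w, hw, e⟩ := mem_sup_of_normal_left.1 hzM
    have hz' : z = (g * v * g⁻¹) * (g * w * g⁻¹) := by
      rw [show g * v * g⁻¹ * (g * w * g⁻¹) = g * (v * w) * g⁻¹ by group, e]; group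
    have hv' : g * v * g⁻¹ ∈ V := hVn.conj_mem v hv g
    have hnor : V ⊓ centralizer (S : Set G) ≤
        normalizer ((V ⊓ centralizer (Sg : Set G) : Subgroup G) : Set G) := fun u hu =>
      centralizer_le_normalizer _ (mem_centralizer_iff.2 fun y hy => hV.comm h hy.1 hu.1)
    have hv'' := (hV.eq_sup hE h hJ).le hv'
    rw [← SetLike.mem_coe, coe_mul_of_left_le_normalizer_right _ _ hnor] at hv''
    obtain ⟨v₀, hv₀, v₁, hv₁, e'⟩ := hv''
    change v₀ * v₁ = g * v * g⁻¹ at e'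
    have h0 : v₀ ∈ Zj := center_le_zJ ⟨hV.le_S h hv₀.1, hv₀.2⟩
    have h1 : v₁ ∈ (Zj).map cg := by
      refine ⟨g⁻¹ * v₁ * g⁻¹⁻¹, center_le_zJ ⟨hV.le_S h (hVn.conj_mem v₁ hv₁.1 g⁻¹),
        mem_centralizer_iff.2 fun s hs => ?_⟩, by simp [cg, mul_assoc]⟩
      have e := mem_centralizer_iff.1 hv₁.2 (g * s * g⁻¹) ⟨s, hs, rfl⟩
      calc s * (g⁻¹ * v₁ * g⁻¹⁻¹) = g⁻¹ * ((g * s * g⁻¹) * v₁) * g := by group
        _ = g⁻¹ * (v₁ * (g * s * g⁻¹)) * g := by rw [e]
        _ = _ := by group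
    rw [← e', mul_assoc] at hz'
    have hx : v₁ * (g * w * g⁻¹) ∈ X := by
      refine ⟨?_, mul_mem h1 ⟨w, hw, rfl⟩⟩
      rw [show v₁ * (g * w * g⁻¹) = v₀⁻¹ * z by rw [hz', inv_mul_cancel_left]]
      exact (Zj).mul_mem ((Zj).inv_mem h0) hz
    have c0 : v₀ * n = n * v₀ := mem_centralizer_iff.1 (hV.core_cent h hn.2) v₀ hv₀.1
    have c1 : v₁ * (g * w * g⁻¹) * n = n * (v₁ * (g * w * g⁻¹)) :=
      mem_centralizer_iff.1 (hNX hn.1) _ (mem_sup_left hx)
    rw [hz', mul_assoc, c1, ← mul_assoc, c0, mul_assoc]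
  set Q := O ⊓ centralizer ((V ⊔ Zj : Subgroup G) : Set G)
  have hQn : Q.Normal := normal_inf_normal _ _
  have hN : N ⊓ S ≤ centralizer (Zj : Set G) := by
    rintro n ⟨hn, hnS⟩
    rw [← jSub_sup_core hE h hJ] at hnS
    obtain ⟨j, hj, o, ho, rfl⟩ := mem_sup_of_normal_right.1 hnS
    refine mul_mem (mem_centralizer_iff.2 fun z hz => (hz.2 j hj).symm) (hkey ⟨?_, ho⟩)
    simpa using mul_mem (inv_mem (subset_normalClosure hj : j ∈ N)) hn
  have hcl : normalClosure ((S ⊓ centralizer (Zj : Set G) : Subgroup G) : Set G) ≤ N ⊔ Q := by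
    refine normalClosure_le_normal ?_
    rintro s ⟨hs, hsc⟩
    rw [SetLike.mem_coe, ← jSub_sup_core hE h hJ] at hs
    obtain ⟨j, hj, o, ho, rfl⟩ := mem_sup_of_normal_right.1 hs
    refine mul_mem (mem_sup_left (subset_normalClosure hj)) (mem_sup_right ⟨ho, ?_⟩)
    rw [Product.centralizer_sup]
    refine ⟨hV.core_cent h ho, ?_⟩
    simpa using mul_mem (inv_mem (mem_centralizer_iff.2 fun z hz => (hz.2 j hj).symm :
      j ∈ centralizer (Zj : Set G))) hsc
  rintro s ⟨hs, hsS⟩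
  obtain ⟨n, hn, q, hq, rfl⟩ := mem_sup_of_normal_left.1 (hcl hs)
  refine mul_mem (hN ⟨hn, ?_⟩) (centralizer_le (SetLike.coe_subset_coe.2 le_sup_right) hq.2)
  show n ∈ S
  simpa using S.mul_mem hsS (S.inv_mem (h.core_le hq.1))

end Cfsg.Agent.PushUp
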