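/-
Rank-one pushing up: the three statements of Baumann type.
-/
import Cfsg.Agent.Lib.PushUp.Natural

set_option autoImplicit false

namespace Cfsg.Agent.PushUp

open Subgroup
open scoped commutatorElement

variable {G : Type*} [Group G] [Finite G] {p : ℕ} [hp : Fact p.Prime]

omit [Finite G] hp in
theorem situation_of (S : Sylow p G)
    (hE₁ : centralizer (Cfsg.pCore p G : Set G) ≤ Cfsg.pCore p G)
    (hE₂ : ∃! M : Subgroup G, IsCoatom M ∧ (S : Subgroup G) ≤ M) (K : Subgroup G) [K.Normal]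
    (F : Type) [Field F] [Fintype F] (n : ℕ) (hF : Fintype.card F = p ^ n)
    (hE₃ : Nonempty (G ⧸ K ≃* Matrix.ProjectiveSpecialLinearGroup (Fin 2) F)) :
    Cfsg.IsPushingUpSituation p (S : Subgroup G) := by
  refine ⟨fun h => ?_, ⟨S, rfl⟩, hE₁, hE₂, K, inferInstance, F, inferInstance, inferInstance, n, hF, hE₃⟩
  obtain ⟨M, ⟨hM, -⟩, -⟩ := hE₂
  exact hM.1 (top_le_iff.1 (h.le.trans bot_le))

variable {S : Subgroup G}

local notation "Zj" => ZJ.zJ p False S
local notation "J" => ZJ.jSub p False S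

theorem exists_fixGen (hnc : ¬ S ⊓ centralizer (S : Set G) ≤ center G) :
    FixGen p S (normalClosure ((S ⊓ centralizer (S : Set G) : Subgroup G) : Set G))
      (S ⊓ centralizer (S : Set G)) := fixGen_of _ le_rfl hnc

/-- `[ZJ(S), S] ∩ Z(S)` or `C_S(ZJ(S))` is normal. -/
theorem zJ_comm_or_jTilde (hE : Cfsg.IsPushingUpSituation p S) :
    (⁅Zj, S⁆ ⊓ (S ⊓ centralizer (S : Set G))).Normal ∨ (S ⊓ centralizer (Zj : Set G)).Normal := by
  obtain ⟨g, h⟩ := exists_sit S hE
  by_cases hc : S ⊓ centralizer (S : Set G) ≤ center G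
  · exact Or.inl (normal_of_central (inf_le_right.trans hc))
  by_cases hJ : J ≤ Cfsg.pCore p G
  · exact Or.inr (jTilde_normal_of_le h hJ hc)
  · exact Or.inl (normal_of_central ((exists_fixGen hc).zJ_comm_center hE h hJ))

/-- `℧¹(Z(S))` or `C_S(ZJ(S))` is normal. -/
theorem powerClosure_or_jTilde (hE : Cfsg.IsPushingUpSituation p S) :
    (Cfsg.powerClosure p 1 (S ⊓ centralizer (S : Set G))).Normal ∨
      (S ⊓ centralizer (Zj : Set G)).Normal := by
  obtain ⟨g, h⟩ := exists_sit S hE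
  have hle : Cfsg.powerClosure p 1 (S ⊓ centralizer (S : Set G)) ≤ S ⊓ centralizer (S : Set G) :=
    (closure_le _).2 (by rintro _ ⟨x, hx, rfl⟩; exact Subgroup.pow_mem _ hx _)
  by_cases hc : S ⊓ centralizer (S : Set G) ≤ center G
  · exact Or.inl (normal_of_central (hle.trans hc))
  by_cases hJ : J ≤ Cfsg.pCore p G
  · exact Or.inr (jTilde_normal_of_le h hJ hc)
  left
  refine normal_of_central ((closure_le _).2 ?_)
  rintro _ ⟨z, hz, rfl⟩
  show z ^ p ^ 1 ∈ center G
  rw [pow_one]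
  have hV := exists_fixGen (p := p) hc
  set Z₁ := omegaOne p (S ⊓ centralizer (S : Set G))
  have hZ₁ : Z₁ ≤ S ⊓ centralizer (S : Set G) := (closure_le _).2 fun x hx => hx.1
  have hV₁ := fixGen_of (p := p) Z₁ hZ₁ fun hle => hc (center_of_omega h hle)
  have hle₁ : normalClosure (Z₁ : Set G) ≤
      normalClosure ((S ⊓ centralizer (S : Set G) : Subgroup G) : Set G) :=
    normalClosure_mono (SetLike.coe_subset_coe.2 hZ₁)
  have hp₁ : ∀ v ∈ normalClosure (Z₁ : Set G), v ^ p = 1 := by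
    intro v hv
    refine closure_induction (fun y hy => ?_) (one_pow _) ?_ ?_ hv
    · obtain ⟨w, hw, hwc⟩ := Group.mem_conjugatesOfSet_iff.1 hy
      obtain ⟨x, rfl⟩ := isConj_iff.1 hwc
      have : w ^ p = 1 := by
        refine closure_induction (fun y hy => hy.2) (one_pow _) ?_ ?_ hw
        · intro a b ha hb e1 e2
          have hc : Commute a b := mem_centralizer_iff.1 (hZ₁ hb).2 a (hZ₁ ha).1
          rw [hc.mul_pow, e1, e2, one_mul]
        · intro a _ e1; rw [inv_pow, e1, inv_one]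
      rw [conj_pow, this]; simp
    · intro a b ha hb e1 e2
      have hc : Commute a b := hV₁.comm h ha hb
      rw [hc.mul_pow, e1, e2, one_mul]
    · intro a _ e1; rw [inv_pow, e1, inv_one]
  obtain ⟨A, hA, hAO⟩ := exists_max_not_le (p := p) (S := S) hJ
  refine h.mem_center (N := normalClosure (A : Set G))
    (fun hN => hAO fun a ha => hN ⟨subset_normalClosure ha, hA.1 ha⟩) (Subgroup.pow_mem _ hz.2 p) ?_
  have hVn := hV.normal
  have hw : g * z * g⁻¹ ∈ normalClosure ((S ⊓ centralizer (S : Set G) : Subgroup G) : Set G) :=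
    hVn.conj_mem z (subset_normalClosure hz) g
  rw [show g * z ^ p * g⁻¹ = (g * z * g⁻¹) ^ p from (conj_pow).symm]
  refine (le_centralizer_iff.1 (?_ : normalClosure (A : Set G) ≤
    centralizer (zpowers ((g * z * g⁻¹) ^ p) : Set G))) (mem_zpowers _)
  rw [normalClosure, closure_le]
  intro y hy
  obtain ⟨a, ha, hconj⟩ := Group.mem_conjugatesOfSet_iff.1 hy
  obtain ⟨x, rfl⟩ := isConj_iff.1 hconj
  have hcomm : Commute (x * a * x⁻¹) ((g * z * g⁻¹) ^ p) := by
    have hw' : x⁻¹ * (g * z * g⁻¹) * x⁻¹⁻¹ ∈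
        normalClosure ((S ⊓ centralizer (S : Set G) : Subgroup G) : Set G) := hVn.conj_mem _ hw x⁻¹
    have e := mem_centralizer_iff.1 (hV.pow_central h hV₁ hle₁ hp₁ hA hw') a ha
    rw [conj_pow, inv_inv] at e
    show x * a * x⁻¹ * (g * z * g⁻¹) ^ p = (g * z * g⁻¹) ^ p * (x * a * x⁻¹)
    calc x * a * x⁻¹ * (g * z * g⁻¹) ^ p = x * (a * (x⁻¹ * (g * z * g⁻¹) ^ p * x)) * x⁻¹ := by group
      _ = x * (x⁻¹ * (g * z * g⁻¹) ^ p * x * a) * x⁻¹ := by rw [e]
      _ = _ := by group
  rw [SetLike.mem_coe, mem_centralizer_iff]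
  intro w hw
  obtain ⟨k, rfl⟩ := mem_zpowers_iff.1 hw
  exact (hcomm.zpow_right k).eq.symm

/-- `C_S(ZJ(S))` is a Sylow subgroup of its normal closure. -/
theorem jTilde_sylow (hE : Cfsg.IsPushingUpSituation p S)
    (hZ : ¬ (S ⊓ centralizer (S : Set G)).Normal) :
    normalClosure ((S ⊓ centralizer (Zj : Set G) : Subgroup G) : Set G) ⊓ S =
      S ⊓ centralizer (Zj : Set G) := by
  obtain ⟨g, h⟩ := exists_sit S hE
  have hc : ¬ S ⊓ centralizer (S : Set G) ≤ center G := fun hle => hZ (normal_of_central hle)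
  refine le_antisymm (le_inf inf_le_right ?_) (le_inf subset_normalClosure inf_le_left)
  by_cases hJ : J ≤ Cfsg.pCore p G
  · have := jTilde_normal_of_le h hJ hc
    exact inf_le_left.trans ((normalClosure_eq_self _).le.trans inf_le_right)
  · exact (exists_fixGen hc).baumann hE h hJ

end Cfsg.Agent.PushUp
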